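import Mathlib
import Cfsg.Agent.LieClassical.OrthCore

/-!
Additive bijections of a nondegenerate quadratic space of Witt index at least two which preserve
singular vectors in both directions are semilinear similitudes.
-/

set_option autoImplicit false

namespace Cfsg.Agent.AutOrth.Semilinear

open QuadraticMap Cfsg.Agent.LieClassical.OrthCore

variable {F V : Type*} [Field F] [AddCommGroup V] [Module F V] {Q : QuadraticForm F V}

/-- Singular, orthogonal, linearly independent. -/
def Adj (Q : QuadraticForm F V) (u w : V) : Prop :=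
  Q u = 0 ∧ Q w = 0 ∧ polar Q u w = 0 ∧ u ≠ 0 ∧ ∀ a : F, w ≠ a • u

theorem Adj.ne {u w : V} (h : Adj Q u w) : w ≠ 0 := by
  have := h.2.2.2.2 0
  rwa [zero_smul] at this

theorem Adj.symm {u w : V} (h : Adj Q u w) : Adj Q w u := by
  refine ⟨h.2.1, h.1, by rw [polar_comm]; exact h.2.2.1, h.ne, fun a ha => ?_⟩
  by_cases ha0 : a = 0
  · rw [ha0, zero_smul] at ha
    exact h.2.2.2.1 ha
  · exact h.2.2.2.2 a⁻¹ (by rw [ha, smul_smul, inv_mul_cancel₀ ha0, one_smul])

/-- There is a totally singular plane. -/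
def HasPlane (Q : QuadraticForm F V) : Prop := ∃ e₁ e₂ : V, Adj Q e₁ e₂

theorem Adj.add_sing {u w : V} (h : Adj Q u w) (a b : F) : Q (a • u + b • w) = 0 := by
  rw [Q_add, QuadraticMap.map_smul, QuadraticMap.map_smul, polar_smul_left, polar_smul_right,
    h.1, h.2.1, h.2.2.1]
  simp

/-- A function on singular vectors which is constant along adjacency is constant. -/
theorem const_of_adj {X : Type*} (hT : HasPlane Q) (c : V → X)
    (hc : ∀ u w, Adj Q u w → c u = c w) :
    ∀ u w, Q u = 0 → Q w = 0 → u ≠ 0 → w ≠ 0 → c u = c w := by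
  obtain ⟨e₁, e₂, he⟩ := hT
  have h1 : ∀ a b : F, a • e₁ + b • e₂ ≠ 0 → c (a • e₁ + b • e₂) = c e₁ := by
    intro a b hab
    by_cases hb : b = 0
    · subst hb
      rw [zero_smul, add_zero] at hab ⊢
      have ha : a ≠ 0 := by rintro rfl; simp at hab
      have hadj : Adj Q e₂ (a • e₁) := by
        refine ⟨he.2.1, by rw [QuadraticMap.map_smul, he.1, smul_zero], ?_, he.ne, ?_⟩
        · rw [polar_smul_right, polar_comm, he.2.2.1, smul_zero]
        · intro t ht
          apply he.symm.2.2.2.2 (a⁻¹ * t)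
          rw [← smul_smul, ← ht, smul_smul, inv_mul_cancel₀ ha, one_smul]
      rw [← hc _ _ hadj, hc _ _ he]
    · refine (hc _ _ ⟨he.1, he.add_sing a b, ?_, he.2.2.2.1, fun t ht => ?_⟩).symm
      · rw [polar_add_right, polar_smul_right, polar_smul_right, he.2.2.1,
          polar_self_of_sing he.1]
        simp
      · apply he.2.2.2.2 (b⁻¹ * (t - a))
        rw [← smul_smul, sub_smul, ← ht, add_sub_cancel_left, smul_smul, inv_mul_cancel₀ hb,
          one_smul]
  have h2 : ∀ u, Q u = 0 → u ≠ 0 → c u = c e₁ := by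
    intro u hu hu0
    obtain ⟨a, b, hab, hperp⟩ : ∃ a b : F, a • e₁ + b • e₂ ≠ 0 ∧
        polar Q (a • e₁ + b • e₂) u = 0 := by
      by_cases h : polar Q e₁ u = 0
      · exact ⟨1, 0, by simpa using he.2.2.2.1, by simpa using h⟩
      · refine ⟨polar Q e₂ u, - polar Q e₁ u, fun h0 => ?_, ?_⟩
        · apply he.2.2.2.2 ((polar Q e₁ u)⁻¹ * polar Q e₂ u)
          rw [← smul_smul, eq_inv_smul_iff₀ h]
          rw [neg_smul, ← sub_eq_add_neg, sub_eq_zero] at h0
          exact h0.symm
        · rw [polar_add_left, polar_smul_left, polar_smul_left]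
          simp only [smul_eq_mul]
          ring
    by_cases hspan : ∃ t : F, u = t • (a • e₁ + b • e₂)
    · obtain ⟨t, ht⟩ := hspan
      have : u = (t * a) • e₁ + (t * b) • e₂ := by rw [ht, smul_add, smul_smul, smul_smul]
      rw [this] at hu0 ⊢
      exact h1 _ _ hu0
    · push Not at hspan
      rw [← h1 a b hab]
      exact (hc _ _ ⟨he.add_sing a b, hu, hperp, hab, hspan⟩).symm
  intro u w hu hw hu0 hw0
  rw [h2 u hu hu0, h2 w hw hw0]

/-- A singular vector has a singular partner. -/
theorem exists_partner (hQ : Nondeg Q) {w : V} (hw : Q w = 0) (hw0 : w ≠ 0) :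
    ∃ w', Q w' = 0 ∧ polar Q w w' = 1 := by
  obtain ⟨y, hy⟩ := hQ.exists_polar_eq hw0 1
  refine ⟨y - Q y • w, ?_, ?_⟩
  · rw [sub_eq_add_neg, ← neg_smul, Q_add, QuadraticMap.map_smul, polar_smul_right, polar_comm,
      hy, hw]
    simp
  · rw [polar_sub_right, polar_smul_right, polar_self_of_sing hw, hy]
    simp

/-- The complement of a hyperbolic pair contains a hyperbolic pair. -/
theorem exists_second_pair (hQ : Nondeg Q) (hT : HasPlane Q) {w w' : V} (hw : Q w = 0)
    (hw' : Q w' = 0) (h1 : polar Q w w' = 1) :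
    ∃ t t', Q t = 0 ∧ Q t' = 0 ∧ polar Q t t' = 1 ∧ polar Q w t = 0 ∧ polar Q w' t = 0 ∧
      polar Q w t' = 0 ∧ polar Q w' t' = 0 := by
  have h1' : polar Q w' w = 1 := by rw [polar_comm]; exact h1
  have hww : polar Q w w = 0 := polar_self_of_sing hw
  have hww' : polar Q w' w' = 0 := polar_self_of_sing hw'
  obtain ⟨e₁, e₂, he⟩ := hT
  -- a singular vector orthogonal to `w`, not a multiple of `w`
  obtain ⟨s, hs, hws, hsw⟩ : ∃ s, Q s = 0 ∧ polar Q w s = 0 ∧ ∀ a : F, s ≠ a • w := by
    by_cases hwT : ∃ a b : F, w = a • e₁ + b • e₂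
    · obtain ⟨a, b, hab⟩ := hwT
      by_cases ha : a = 0
      · have hb : b ≠ 0 := by
          rintro rfl
          rw [ha] at hab
          rw [hab] at h1
          simp at h1
        refine ⟨e₁, he.1, ?_, fun t ht => ?_⟩
        · rw [hab, polar_add_left, polar_smul_left, polar_smul_left, polar_comm Q e₂,
            he.2.2.1, polar_self_of_sing he.1]
          simp
        · apply he.symm.2.2.2.2 (t * b)
          rw [ht, hab, ha, zero_smul, zero_add, smul_smul]
      · refine ⟨e₂, he.2.1, ?_, fun t ht => ?_⟩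
        · rw [hab, polar_add_left, polar_smul_left, polar_smul_left, 
            he.2.2.1, polar_self_of_sing he.2.1]
          simp
        · by_cases htb : t * b = 1
          · have ht0 : t ≠ 0 := by rintro rfl; simp at htb
            rw [hab, smul_add, smul_smul, smul_smul, htb, one_smul, right_eq_add] at ht
            exact (smul_ne_zero (mul_ne_zero ht0 ha) he.2.2.2.1) ht
          · apply he.2.2.2.2 ((1 - t * b)⁻¹ * (t * a))
            have h3 : (1 - t * b) ≠ 0 := sub_ne_zero.2 (Ne.symm htb)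
            rw [← smul_smul, eq_inv_smul_iff₀ h3, sub_smul, one_smul, sub_eq_iff_eq_add]
            nth_rewrite 1 [ht]
            rw [hab, smul_add, smul_smul, smul_smul]
    · by_cases h : polar Q e₁ w = 0
      · refine ⟨e₁, he.1, by rw [polar_comm]; exact h, fun t ht => ?_⟩
        have ht0 : t ≠ 0 := by
          rintro rfl
          rw [zero_smul] at ht
          exact he.2.2.2.1 ht
        exact hwT ⟨t⁻¹, 0, by rw [ht, smul_smul, inv_mul_cancel₀ ht0, one_smul, zero_smul, add_zero]⟩
      · refine ⟨polar Q e₂ w • e₁ + (- polar Q e₁ w) • e₂, he.add_sing _ _, ?_, fun t ht => ?_⟩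
        · rw [polar_add_right, polar_smul_right, polar_smul_right, polar_comm Q w, polar_comm Q w]
          simp only [smul_eq_mul]
          ring
        · by_cases ht0 : t = 0
          · rw [ht0, zero_smul] at ht
            apply he.2.2.2.2 ((polar Q e₁ w)⁻¹ * polar Q e₂ w)
            rw [← smul_smul, eq_inv_smul_iff₀ h]
            rw [neg_smul, ← sub_eq_add_neg, sub_eq_zero] at ht
            exact ht.symm
          · exact hwT ⟨t⁻¹ * polar Q e₂ w, t⁻¹ * (- polar Q e₁ w), by
              rw [← smul_smul, ← smul_smul, ← smul_add, ht, smul_smul, inv_mul_cancel₀ ht0,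
                one_smul]⟩
  -- project it
  set t := s - polar Q w' s • w with htdef
  have ht0 : t ≠ 0 := sub_ne_zero.2 (hsw _)
  have hwt : polar Q w t = 0 := by
    rw [htdef, polar_sub_right, polar_smul_right, hww, hws]; simp
  have hw't : polar Q w' t = 0 := by
    rw [htdef, polar_sub_right, polar_smul_right, h1']; simp
  have hQt : Q t = 0 := by
    rw [htdef, sub_eq_add_neg, ← neg_smul, Q_add, QuadraticMap.map_smul, polar_smul_right,
      polar_comm Q s w, hws, hs, hw]; simp
  obtain ⟨y, hy⟩ := hQ.exists_polar_eq ht0 1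
  set y' := y - polar Q w' y • w - polar Q w y • w' with hy'def
  have hwy' : polar Q w y' = 0 := by
    rw [hy'def, polar_sub_right, polar_sub_right, polar_smul_right, polar_smul_right, hww, h1]
    simp
  have hw'y' : polar Q w' y' = 0 := by
    rw [hy'def, polar_sub_right, polar_sub_right, polar_smul_right, polar_smul_right, hww', h1']
    simp
  have hty' : polar Q t y' = 1 := by
    rw [hy'def, polar_sub_right, polar_sub_right, polar_smul_right, polar_smul_right,
      polar_comm Q t w, polar_comm Q t w', hwt, hw't, hy]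
    simp
  refine ⟨t, y' - Q y' • t, hQt, ?_, ?_, hwt, hw't, ?_, ?_⟩
  · rw [sub_eq_add_neg, ← neg_smul, Q_add, QuadraticMap.map_smul, polar_smul_right,
      polar_comm Q y' t, hty', hQt]; simp
  · rw [polar_sub_right, polar_smul_right, polar_self_of_sing hQt, hty']; simp
  · rw [polar_sub_right, polar_smul_right, hwy', hwt]; simp
  · rw [polar_sub_right, polar_smul_right, hw'y', hw't]; simp

/-- The orthogonal space of a singular vector is spanned by its singular vectors. -/
theorem mem_span_perp (hQ : Nondeg Q) (hT : HasPlane Q) {w : V} (hw : Q w = 0) (hw0 : w ≠ 0)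
    {z : V} (hz : polar Q w z = 0) : z ∈ Submodule.span F {s : V | Q s = 0 ∧ polar Q w s = 0} := by
  obtain ⟨w', hw', h1⟩ := exists_partner hQ hw hw0
  obtain ⟨t, t', ht, ht', h2, hwt, hw't, hwt', hw't'⟩ := exists_second_pair hQ hT hw hw' h1
  have h2' : polar Q t' t = 1 := by rw [polar_comm]; exact h2
  set S := Submodule.span F {s : V | Q s = 0 ∧ polar Q w s = 0}
  have hwS : w ∈ S := Submodule.subset_span ⟨hw, polar_self_of_sing hw⟩
  have htS : t ∈ S := Submodule.subset_span ⟨ht, hwt⟩
  have ht'S : t' ∈ S := Submodule.subset_span ⟨ht', hwt'⟩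
  set z₁ := z - polar Q t' z • t - polar Q t z • t' with hz₁
  have hwz₁ : polar Q w z₁ = 0 := by
    rw [hz₁, polar_sub_right, polar_sub_right, polar_smul_right, polar_smul_right, hwt, hwt', hz]
    simp
  have htz₁ : polar Q t z₁ = 0 := by
    rw [hz₁, polar_sub_right, polar_sub_right, polar_smul_right, polar_smul_right, h2,
      polar_self_of_sing ht]
    simp
  have ht'z₁ : polar Q t' z₁ = 0 := by
    rw [hz₁, polar_sub_right, polar_sub_right, polar_smul_right, polar_smul_right, h2',
      polar_self_of_sing ht']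
    simp
  have h3 : z₁ + t - Q z₁ • t' ∈ S := by
    refine Submodule.subset_span ⟨?_, ?_⟩
    · rw [sub_eq_add_neg, ← neg_smul, Q_add, Q_add, QuadraticMap.map_smul, polar_smul_right,
        polar_add_left, polar_comm Q z₁ t', polar_comm Q z₁ t, ht'z₁, htz₁, h2, ht, ht']
      simp
    · rw [polar_sub_right, polar_add_right, polar_smul_right, hwz₁, hwt, hwt']
      simp
  have h4 : z = (z₁ + t - Q z₁ • t') - t + Q z₁ • t' + polar Q t' z • t + polar Q t z • t' := by
    rw [hz₁]; abel
  rw [h4]
  exact S.add_mem (S.add_mem (S.add_mem (S.sub_mem h3 htS) (S.smul_mem _ ht'S))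
    (S.smul_mem _ htS)) (S.smul_mem _ ht'S)

/-- The space is spanned by its singular vectors. -/
theorem span_sing (hQ : Nondeg Q) (hT : HasPlane Q) : Submodule.span F {s : V | Q s = 0} = ⊤ := by
  rw [eq_top_iff]
  rintro z -
  obtain ⟨e₁, e₂, he⟩ := hT
  obtain ⟨f, hf, hef⟩ := exists_partner hQ he.1 he.2.2.2.1
  have hz : polar Q e₁ (z - polar Q e₁ z • f) = 0 := by
    rw [polar_sub_right, polar_smul_right, hef]; simp
  have h1 := mem_span_perp hQ ⟨e₁, e₂, he⟩ he.1 he.2.2.2.1 hz
  have h2 : z = (z - polar Q e₁ z • f) + polar Q e₁ z • f := by abel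
  rw [h2]
  refine Submodule.add_mem _ (Submodule.span_mono (fun s hs => hs.1) h1)
    (Submodule.smul_mem _ _ (Submodule.subset_span hf))

/-- Characterisation of the line through a singular vector by orthogonality. -/
theorem mem_line_of_perp (hQ : Nondeg Q) (hT : HasPlane Q) {w : V} (hw : Q w = 0) (hw0 : w ≠ 0)
    {v : V} (h : ∀ u, Q u = 0 → polar Q w u = 0 → polar Q v u = 0) : ∃ a : F, v = a • w := by
  obtain ⟨w', hw', h1⟩ := exists_partner hQ hw hw0
  refine ⟨polar Q v w', ?_⟩
  have hperp : ∀ z, polar Q w z = 0 → polar Q v z = 0 := by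
    intro z hz
    have := mem_span_perp hQ hT hw hw0 hz
    clear hz
    induction this using Submodule.span_induction with
    | mem x hx => exact h x hx.1 hx.2
    | zero => simp
    | add x y _ _ hx hy => rw [polar_add_right, hx, hy, add_zero]
    | smul a x _ hx => rw [polar_smul_right, hx, smul_zero]
  rw [← sub_eq_zero]
  refine hQ _ fun y => ?_
  have hz : polar Q w (y - polar Q w y • w') = 0 := by
    rw [polar_sub_right, polar_smul_right, h1]; simp
  have h2 := hperp _ hz
  rw [polar_sub_right, polar_smul_right, sub_eq_zero] at h2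
  rw [polar_sub_left, polar_smul_left, h2]
  simp only [smul_eq_mul]
  ring

/-- Separating independent vectors. -/
theorem exists_sep (hQ : Nondeg Q) {u w : V} (hw0 : w ≠ 0) (h : ∀ a : F, u ≠ a • w) :
    ∃ y, polar Q w y = 0 ∧ polar Q u y ≠ 0 := by
  by_contra hcon
  push Not at hcon
  obtain ⟨w', hw'⟩ := hQ.exists_polar_eq hw0 1
  apply h (polar Q u w')
  rw [← sub_eq_zero]
  refine hQ _ fun y => ?_
  have hz : polar Q w (y - polar Q w y • w') = 0 := by
    rw [polar_sub_right, polar_smul_right, hw']; simp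
  have h2 := hcon _ hz
  rw [polar_sub_right, polar_smul_right, sub_eq_zero] at h2
  rw [polar_sub_left, polar_smul_left, h2]
  simp only [smul_eq_mul]
  ring

section Main

variable (φ : V ≃+ V)

theorem polar_iff (hφ : ∀ x, Q (φ x) = 0 ↔ Q x = 0) {x y : V} (hx : Q x = 0) (hy : Q y = 0) :
    polar Q (φ x) (φ y) = 0 ↔ polar Q x y = 0 := by
  have h1 : Q (x + y) = polar Q x y := by rw [Q_add, hx, hy]; simp
  have h2 : Q (φ x + φ y) = polar Q (φ x) (φ y) := by
    rw [Q_add, (hφ x).2 hx, (hφ y).2 hy]; simp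
  rw [← h1, ← h2, ← map_add, hφ]

theorem map_line (hQ : Nondeg Q) (hT : HasPlane Q) (hφ : ∀ x, Q (φ x) = 0 ↔ Q x = 0) {w : V}
    (hw : Q w = 0) (hw0 : w ≠ 0) (a : F) : ∃ b : F, φ (a • w) = b • φ w := by
  refine mem_line_of_perp hQ hT ((hφ w).2 hw) (by simpa using hw0) fun u hu hwu => ?_
  obtain ⟨u, rfl⟩ := φ.surjective u
  rw [hφ] at hu
  rw [polar_iff φ hφ hw hu] at hwu
  rw [polar_iff φ hφ (by rw [QuadraticMap.map_smul, hw, smul_zero]) hu, polar_smul_left, hwu,
    smul_zero]

theorem map_adj (hQ : Nondeg Q) (hT : HasPlane Q) (hφ : ∀ x, Q (φ x) = 0 ↔ Q x = 0) {u w : V}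
    (h : Adj Q u w) : Adj Q (φ u) (φ w) := by
  refine ⟨(hφ u).2 h.1, (hφ w).2 h.2.1, (polar_iff φ hφ h.1 h.2.1).2 h.2.2.1,
    by simpa using h.2.2.2.1, fun a ha => ?_⟩
  have hφ' : ∀ x, Q (φ.symm x) = 0 ↔ Q x = 0 := fun x => by
    rw [← hφ (φ.symm x), AddEquiv.apply_symm_apply]
  obtain ⟨b, hb⟩ := map_line φ.symm hQ hT hφ' ((hφ u).2 h.1) (by simpa using h.2.2.2.1) a
  rw [← ha, AddEquiv.symm_apply_apply, AddEquiv.symm_apply_apply] at hb
  exact h.2.2.2.2 b hb

/-- An additive bijection preserving singularity in both directions is a semilinear similitude. -/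
theorem exists_semilinear (hQ : Nondeg Q) (hT : HasPlane Q) (hφ : ∀ x, Q (φ x) = 0 ↔ Q x = 0) :
    ∃ (σ : F ≃+* F) (c : F), c ≠ 0 ∧ (∀ (a : F) (x : V), φ (a • x) = σ a • φ x) ∧
      (∀ x y, polar Q (φ x) (φ y) = c * σ (polar Q x y)) ∧ ∀ x, Q (φ x) = c * σ (Q x) := by
  classical
  have hφ' : ∀ x, Q (φ.symm x) = 0 ↔ Q x = 0 := fun x => by
    rw [← hφ (φ.symm x), AddEquiv.apply_symm_apply]
  have hex : ∀ (a : F) (w : V), ∃ b : F, (Q w = 0 → w ≠ 0 → φ (a • w) = b • φ w) := by
    intro a w
    by_cases h : Q w = 0 ∧ w ≠ 0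
    · obtain ⟨b, hb⟩ := map_line φ hQ hT hφ h.1 h.2 a
      exact ⟨b, fun _ _ => hb⟩
    · exact ⟨0, fun h1 h2 => (h ⟨h1, h2⟩).elim⟩
  choose s hs using hex
  have hne : ∀ {w : V}, w ≠ 0 → φ w ≠ 0 := fun h => by simpa using h
  -- constancy of `s a`
  have hsadj : ∀ (a : F) (u w : V), Adj Q u w → s a u = s a w := by
    intro a u w h
    have huw0 : u + w ≠ 0 := by
      intro h0
      apply h.2.2.2.2 (-1)
      rw [neg_smul, one_smul]
      exact (neg_eq_of_add_eq_zero_right h0).symm
    have huw : Q (u + w) = 0 := by simpa using h.add_sing 1 1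
    have e1 := hs a (u + w) huw huw0
    rw [smul_add, map_add, hs a u h.1 h.2.2.2.1, hs a w h.2.1 h.ne, map_add, smul_add] at e1
    have e2 : (s a u - s a (u + w)) • φ u = (s a (u + w) - s a w) • φ w := by
      rw [sub_smul, sub_smul, sub_eq_sub_iff_add_eq_add, e1]
      abel
    have hadj := map_adj φ hQ hT hφ h
    have e3 : s a (u + w) - s a w = 0 := by
      by_contra h0
      apply hadj.2.2.2.2 ((s a (u + w) - s a w)⁻¹ * (s a u - s a (u + w)))
      rw [← smul_smul, e2, smul_smul, inv_mul_cancel₀ h0, one_smul]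
    rw [e3, zero_smul, smul_eq_zero] at e2
    rcases e2 with e2 | e2
    · rw [sub_eq_zero] at e2 e3
      rw [e2, e3]
    · exact (hadj.2.2.2.1 e2).elim
  obtain ⟨e₁, e₂, he⟩ := id hT
  have he1 := he.1
  have he0 := he.2.2.2.1
  have hconst : ∀ (a : F) (w : V), Q w = 0 → w ≠ 0 → φ (a • w) = s a e₁ • φ w := by
    intro a w hw hw0
    rw [hs a w hw hw0, const_of_adj hT (s a) (hsadj a) w e₁ hw he1 hw0 he0]
  have hcanc : ∀ {a b : F}, a • φ e₁ = b • φ e₁ → a = b := fun h =>
    smul_left_injective F (hne he0) h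
  let σ' : F →+* F :=
    { toFun := fun a => s a e₁
      map_one' := hcanc (by
        change s 1 e₁ • φ e₁ = _
        rw [← hconst 1 e₁ he1 he0, one_smul, one_smul])
      map_mul' := fun a b => hcanc (by
        by_cases hb : b = 0
        · subst hb
          have : s 0 e₁ • φ e₁ = 0 := by rw [← hconst 0 e₁ he1 he0, zero_smul, map_zero]
          rw [mul_zero, mul_smul, this, smul_zero]
        · have hQb : Q (b • e₁) = 0 := by rw [QuadraticMap.map_smul, he1, smul_zero]
          rw [← hconst _ e₁ he1 he0, mul_smul, hconst a _ hQb (smul_ne_zero hb he0),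
            hconst b _ he1 he0, mul_smul])
      map_zero' := hcanc (by
        change s 0 e₁ • φ e₁ = _
        rw [← hconst 0 e₁ he1 he0, zero_smul, zero_smul, map_zero])
      map_add' := fun a b => hcanc (by
        change s (a + b) e₁ • φ e₁ = (s a e₁ + s b e₁) • φ e₁
        rw [← hconst _ e₁ he1 he0, add_smul, map_add, hconst _ e₁ he1 he0, hconst _ e₁ he1 he0,
          add_smul]) }
  have hσ'surj : Function.Surjective σ' := by
    intro b
    obtain ⟨a, ha⟩ := map_line φ.symm hQ hT hφ' ((hφ e₁).2 he1) (hne he0) b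
    refine ⟨a, hcanc ?_⟩
    change s a e₁ • φ e₁ = _
    rw [AddEquiv.symm_apply_apply] at ha
    rw [← hconst a e₁ he1 he0, ← ha, AddEquiv.apply_symm_apply]
  let σ : F ≃+* F := RingEquiv.ofBijective σ' ⟨σ'.injective, hσ'surj⟩
  have hσ : ∀ (a : F) (w : V), Q w = 0 → w ≠ 0 → φ (a • w) = σ a • φ w := hconst
  have hσall : ∀ (a : F) (x : V), φ (a • x) = σ a • φ x := by
    intro a x
    have hx : x ∈ Submodule.span F {s : V | Q s = 0} := by rw [span_sing hQ hT]; trivial
    induction hx using Submodule.span_induction generalizing a with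
    | mem x hx =>
      by_cases hx0 : x = 0
      · rw [hx0]; simp
      · exact hσ a x hx hx0
    | zero => simp
    | add x y _ _ hx hy => rw [smul_add, map_add, hx, hy, map_add, smul_add]
    | smul b x _ hx => rw [smul_smul, hx, hx, map_mul, mul_smul]
  -- the multiplier
  have hcex : ∀ x : V, ∃ c : F, (Q x = 0 → x ≠ 0 → ∀ y, polar Q (φ x) (φ y) = c * σ (polar Q x y)) := by
    intro x
    by_cases h : Q x = 0 ∧ x ≠ 0
    · obtain ⟨x', hx', h1⟩ := exists_partner hQ h.1 h.2
      refine ⟨polar Q (φ x) (φ x'), fun _ _ y => ?_⟩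
      have hz : polar Q x (y - polar Q x y • x') = 0 := by
        rw [polar_sub_right, polar_smul_right, h1]; simp
      have hz' : ∀ z, polar Q x z = 0 → polar Q (φ x) (φ z) = 0 := by
        intro z hz
        have := mem_span_perp hQ hT h.1 h.2 hz
        clear hz
        induction this using Submodule.span_induction with
        | mem z hz => exact (polar_iff φ hφ h.1 hz.1).2 hz.2
        | zero => simp
        | add x y _ _ hx hy => rw [map_add, polar_add_right, hx, hy, add_zero]
        | smul a x _ hx => rw [hσall, polar_smul_right, hx, smul_zero]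
      have h3 := hz' _ hz
      rw [map_sub, polar_sub_right, hσall, polar_smul_right, sub_eq_zero] at h3
      rw [h3, smul_eq_mul, mul_comm]
    · exact ⟨0, fun h1 h2 => (h ⟨h1, h2⟩).elim⟩
  choose c hc using hcex
  have hcadj : ∀ u w, Adj Q u w → c u = c w := by
    intro u w h
    have huw0 : u + w ≠ 0 := by
      intro h0
      apply h.2.2.2.2 (-1)
      rw [neg_smul, one_smul]
      exact (neg_eq_of_add_eq_zero_right h0).symm
    have huw : Q (u + w) = 0 := by simpa using h.add_sing 1 1
    have e1 : ∀ y, c (u + w) * (σ (polar Q u y) + σ (polar Q w y)) =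
        c u * σ (polar Q u y) + c w * σ (polar Q w y) := by
      intro y
      have e2 := hc (u + w) huw huw0 y
      rw [map_add, polar_add_left, hc u h.1 h.2.2.2.1, hc w h.2.1 h.ne, polar_add_left,
        map_add] at e2
      exact e2.symm
    obtain ⟨y, hy1, hy2⟩ := exists_sep hQ h.ne h.symm.2.2.2.2
    obtain ⟨z, hz1, hz2⟩ := exists_sep hQ h.2.2.2.1 h.2.2.2.2
    have e3 := e1 y
    have e4 := e1 z
    rw [hy1, map_zero, add_zero, mul_zero, add_zero] at e3
    rw [hz1, map_zero, zero_add, mul_zero, zero_add] at e4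
    rw [← mul_right_cancel₀ (by simpa using hy2) e3, ← mul_right_cancel₀ (by simpa using hz2) e4]
  have hcc : ∀ x, Q x = 0 → ∀ y, polar Q (φ x) (φ y) = c e₁ * σ (polar Q x y) := by
    intro x hx y
    by_cases hx0 : x = 0
    · rw [hx0]; simp
    · rw [hc x hx hx0, const_of_adj hT c hcadj x e₁ hx he1 hx0 he0]
  have hpol : ∀ x y, polar Q (φ x) (φ y) = c e₁ * σ (polar Q x y) := by
    intro x y
    have hx : x ∈ Submodule.span F {s : V | Q s = 0} := by rw [span_sing hQ hT]; trivial
    induction hx using Submodule.span_induction with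
    | mem x hx => exact hcc x hx y
    | zero => simp
    | add x z _ _ hx hz => rw [map_add, polar_add_left, hx, hz, polar_add_left, map_add, mul_add]
    | smul b x _ hx =>
      rw [hσall, polar_smul_left, hx, polar_smul_left, smul_eq_mul, smul_eq_mul, map_mul]
      ring
  refine ⟨σ, c e₁, ?_, hσall, hpol, ?_⟩
  · intro h0
    obtain ⟨y, hy⟩ := hQ.exists_polar_eq (hne he0) 1
    obtain ⟨y, rfl⟩ := φ.surjective y
    rw [hpol, h0, zero_mul] at hy
    exact zero_ne_one hy
  · intro x
    have hx : x ∈ Submodule.span F {s : V | Q s = 0} := by rw [span_sing hQ hT]; trivial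
    induction hx using Submodule.span_induction with
    | mem x hx => rw [(hφ x).2 hx, hx]; simp
    | zero => simp
    | add x z _ _ hx hz => rw [map_add, Q_add, hx, hz, hpol, Q_add, map_add, map_add]; ring
    | smul b x _ hx =>
      rw [hσall, QuadraticMap.map_smul, hx, QuadraticMap.map_smul, smul_eq_mul, smul_eq_mul,
        map_mul, map_mul]
      ring

end Main

end Cfsg.Agent.AutOrth.Semilinear
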