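import Mathlib
import Cfsg.Agent.LieClassical.OrthSimple
import Cfsg.Agent.AutOrth.Semilinear

/-!
Siegel subgroups, semisimilarities, and their action on `E Q`.
-/

set_option autoImplicit false

namespace Cfsg.Agent.AutOrth.SemiSim

open QuadraticMap Cfsg.Agent.LieClassical.OrthCore Cfsg.Agent.LieClassical.OrthTrans
  Cfsg.Agent.LieClassical.OrthSimple

variable {F V : Type*} [Field F] [AddCommGroup V] [Module F V] {Q : QuadraticForm F V}

/-! ### Siegel elements -/

/-- Siegel elements, as elements of `E Q`. -/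
def sg (Q : QuadraticForm F V) (u w : V) (hu : Q u = 0) (hw : polar Q u w = 0) : ↥(E Q) :=
  ⟨siegel Q u w hu hw, siegel_mem_E hu hw⟩

theorem sg_apply {u w : V} (hu : Q u = 0) (hw : polar Q u w = 0) (v : V) :
    (sg Q u w hu hw : V ≃ₗ[F] V) v =
      v + polar Q u v • w - polar Q w v • u - (Q w * polar Q u v) • u :=
  siegel_apply hu hw v

theorem sg_self {u w : V} (hu : Q u = 0) (hw : polar Q u w = 0) :
    (sg Q u w hu hw : V ≃ₗ[F] V) u = u := by
  rw [sg_apply, polar_self_of_sing hu, polar_comm Q w u, hw]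
  simp

theorem ext_E {g h : ↥(E Q)} (H : ∀ v, (g : V ≃ₗ[F] V) v = (h : V ≃ₗ[F] V) v) : g = h :=
  Subtype.ext (LinearEquiv.ext H)

theorem sg_mul {u w w' : V} (hu : Q u = 0) (hw : polar Q u w = 0) (hw' : polar Q u w' = 0)
    (h : polar Q u (w + w') = 0) :
    sg Q u w hu hw * sg Q u w' hu hw' = sg Q u (w + w') hu h :=
  Subtype.ext (siegel_mul hu hw hw' h)

theorem sg_congr {u u' w w' : V} (hu : Q u = 0) (hw : polar Q u w = 0)
    (hu' : Q u' = 0) (hw' : polar Q u' w' = 0) (e : u = u') (e' : w = w') :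
    sg Q u w hu hw = sg Q u' w' hu' hw' := by
  subst e e'
  rfl

theorem sg_zero {u : V} (hu : Q u = 0) (h : polar Q u 0 = 0) : sg Q u 0 hu h = 1 := by
  refine ext_E fun v => ?_
  rw [sg_apply]
  simp

theorem sg_inv {u w : V} (hu : Q u = 0) (hw : polar Q u w = 0) (hw' : polar Q u (-w) = 0) :
    (sg Q u w hu hw)⁻¹ = sg Q u (-w) hu hw' := by
  have h0 : polar Q u (w + -w) = 0 := by simp
  rw [inv_eq_iff_mul_eq_one, sg_mul hu hw hw' h0, ← sg_zero hu (by simp)]
  exact sg_congr _ _ _ _ rfl (by simp)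

theorem sg_add_smul {u w : V} (a : F) (hu : Q u = 0) (hw : polar Q u w = 0)
    (hw' : polar Q u (w + a • u) = 0) :
    sg Q u (w + a • u) hu hw' = sg Q u w hu hw := by
  refine ext_E fun v => ?_
  rw [sg_apply, sg_apply, Q_add, QuadraticMap.map_smul, hu, polar_smul_right, polar_comm Q w u,
    hw, polar_add_left, polar_smul_left]
  simp only [smul_eq_mul]
  module

theorem sg_smul {u w : V} (a : F) (hu : Q u = 0) (hu' : Q (a • u) = 0)
    (hw : polar Q (a • u) w = 0) (hw' : polar Q u (a • w) = 0) :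
    sg Q (a • u) w hu' hw = sg Q u (a • w) hu hw' :=
  Subtype.ext (siegel_smul_left hu hu' hw hw')

/-- A Siegel element which is scalar is trivial. -/
theorem mem_line_of_scalar (hQ : Nondeg Q) {u w : V} (hu : Q u = 0) (hu0 : u ≠ 0)
    (hw : polar Q u w = 0) {c : F} (h : ∀ v, (sg Q u w hu hw : V ≃ₗ[F] V) v = c • v) :
    ∃ a : F, w = a • u := by
  have h1 := h u
  rw [sg_self] at h1
  have hc : c = 1 := by
    have : (1 - c) • u = 0 := by rw [sub_smul, one_smul, ← h1, sub_self]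
    rcases smul_eq_zero.1 this with h2 | h2
    · exact (sub_eq_zero.1 h2).symm
    · exact (hu0 h2).elim
  obtain ⟨v, hv⟩ := hQ.exists_polar_eq hu0 1
  have h2 := h v
  rw [sg_apply, hv, hc, one_smul, one_smul, mul_one] at h2
  refine ⟨polar Q w v + Q w, ?_⟩
  have h3 : w - (polar Q w v + Q w) • u = (v + w - polar Q w v • u - Q w • u) - v := by module
  rw [← sub_eq_zero, h3, h2, sub_self]

/-- Conjugation of Siegel elements. -/
theorem conj_sg (g : ↥(E Q)) {u w : V} (hu : Q u = 0) (hw : polar Q u w = 0)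
    (hu' : Q ((g : V ≃ₗ[F] V) u) = 0)
    (hw' : polar Q ((g : V ≃ₗ[F] V) u) ((g : V ≃ₗ[F] V) w) = 0) :
    g * sg Q u w hu hw * g⁻¹ = sg Q ((g : V ≃ₗ[F] V) u) ((g : V ≃ₗ[F] V) w) hu' hw' :=
  Subtype.ext (siegel_conj (E_le_O g.2) hu hw hu' hw')

/-- The Siegel subgroup of a singular vector. -/
def RS (Q : QuadraticForm F V) (u : V) (hu : Q u = 0) : Subgroup ↥(E Q) where
  carrier := {g | ∃ w, ∃ hw : polar Q u w = 0, g = sg Q u w hu hw}
  mul_mem' := by
    rintro _ _ ⟨w, hw, rfl⟩ ⟨w', hw', rfl⟩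
    exact ⟨w + w', by rw [polar_add_right, hw, hw', add_zero], sg_mul _ _ _ _⟩
  one_mem' := ⟨0, by simp, (sg_zero hu _).symm⟩
  inv_mem' := by
    rintro _ ⟨w, hw, rfl⟩
    exact ⟨-w, by rw [polar_neg_right, hw, neg_zero], sg_inv _ _ _⟩

theorem mem_RS {u : V} {hu : Q u = 0} {g : ↥(E Q)} :
    g ∈ RS Q u hu ↔ ∃ w, ∃ hw : polar Q u w = 0, g = sg Q u w hu hw := Iff.rfl

theorem sg_mem_RS {u w : V} (hu : Q u = 0) (hw : polar Q u w = 0) : sg Q u w hu hw ∈ RS Q u hu :=
  ⟨w, hw, rfl⟩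

theorem RS_smul {u : V} {a : F} (ha : a ≠ 0) (hu : Q u = 0) (hu' : Q (a • u) = 0) :
    RS Q (a • u) hu' = RS Q u hu := by
  ext g
  constructor
  · rintro ⟨w, hw, rfl⟩
    have hw' : polar Q u (a • w) = 0 := by
      rw [polar_smul_right, ← polar_smul_left]; exact hw
    exact ⟨a • w, hw', sg_smul a hu hu' hw hw'⟩
  · rintro ⟨w, hw, rfl⟩
    have h1 : polar Q (a • u) (a⁻¹ • w) = 0 := by
      rw [polar_smul_right, polar_smul_left, hw]; simp
    have h2 : polar Q u (a • (a⁻¹ • w)) = 0 := by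
      rw [smul_smul, mul_inv_cancel₀ ha, one_smul]; exact hw
    refine ⟨a⁻¹ • w, h1, ?_⟩
    rw [sg_smul a hu hu' h1 h2]
    exact sg_congr _ _ _ _ rfl (by rw [smul_smul, mul_inv_cancel₀ ha, one_smul])

theorem RS_congr {u u' : V} (h : u = u') (hu : Q u = 0) (hu' : Q u' = 0) :
    RS Q u hu = RS Q u' hu' := by
  subst h; rfl

theorem map_conj_RS (g : ↥(E Q)) {u : V} (hu : Q u = 0) (hu' : Q ((g : V ≃ₗ[F] V) u) = 0) :
    (RS Q u hu).map (MulAut.conj g).toMonoidHom = RS Q ((g : V ≃ₗ[F] V) u) hu' := by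
  ext h
  rw [Subgroup.mem_map]
  constructor
  · rintro ⟨_, ⟨w, hw, rfl⟩, rfl⟩
    have hw' : polar Q ((g : V ≃ₗ[F] V) u) ((g : V ≃ₗ[F] V) w) = 0 := by
      rw [polar_map (E_le_O g.2)]; exact hw
    exact ⟨_, hw', conj_sg g hu hw hu' hw'⟩
  · rintro ⟨w, hw, rfl⟩
    obtain ⟨w, rfl⟩ := (g : V ≃ₗ[F] V).surjective w
    have hw' : polar Q u w = 0 := by
      rw [← polar_map (E_le_O g.2)]; exact hw
    exact ⟨_, sg_mem_RS hu hw', conj_sg g hu hw' hu' hw⟩

/-! ### Semisimilarities -/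

/-- `M` is a semisimilarity with field automorphism `σ` and multiplier `c`. -/
structure IsSemi (Q : QuadraticForm F V) (M : V ≃+ V) (σ : F ≃+* F) (c : F) : Prop where
  ne : c ≠ 0
  smul : ∀ (a : F) (v : V), M (a • v) = σ a • M v
  form : ∀ v, Q (M v) = c * σ (Q v)

theorem IsSemi.polar {M : V ≃+ V} {σ : F ≃+* F} {c : F} (h : IsSemi Q M σ c) (x y : V) :
    polar Q (M x) (M y) = c * σ (polar Q x y) := by
  simp only [QuadraticMap.polar, ← map_add, h.form, map_sub]
  ring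

theorem IsSemi.symm {M : V ≃+ V} {σ : F ≃+* F} {c : F} (h : IsSemi Q M σ c) :
    IsSemi Q M.symm σ.symm (σ.symm c⁻¹) where
  ne := by simpa using h.ne
  smul a v := by
    rw [AddEquiv.symm_apply_eq, h.smul, RingEquiv.apply_symm_apply, AddEquiv.apply_symm_apply]
  form v := by
    have h1 := h.form (M.symm v)
    rw [AddEquiv.apply_symm_apply] at h1
    rw [h1, ← map_mul, ← mul_assoc, inv_mul_cancel₀ h.ne, one_mul, RingEquiv.symm_apply_apply]

/-- Conjugation of a linear automorphism by a semilinear map. -/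
def conjL {M : V ≃+ V} {σ : F ≃+* F} {c : F} (h : IsSemi Q M σ c) (g : V ≃ₗ[F] V) : V ≃ₗ[F] V where
  toFun v := M (g (M.symm v))
  invFun v := M (g.symm (M.symm v))
  map_add' x y := by simp
  map_smul' a x := by
    rw [h.symm.smul, map_smul, h.smul, RingEquiv.apply_symm_apply, RingHom.id_apply]
  left_inv v := by simp
  right_inv v := by simp

theorem conjL_apply {M : V ≃+ V} {σ : F ≃+* F} {c : F} (h : IsSemi Q M σ c) (g : V ≃ₗ[F] V)
    (v : V) : conjL h g v = M (g (M.symm v)) := rfl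

theorem conjL_apply' {M : V ≃+ V} {σ : F ≃+* F} {c : F} (h : IsSemi Q M σ c) (g : V ≃ₗ[F] V)
    (v : V) : conjL h g (M v) = M (g v) := by
  rw [conjL_apply, AddEquiv.symm_apply_apply]

theorem conjL_siegel {M : V ≃+ V} {σ : F ≃+* F} {c : F} (h : IsSemi Q M σ c) {u w : V}
    (hu : Q u = 0) (hw : polar Q u w = 0) (hu' : Q (M u) = 0)
    (hw' : polar Q (M u) (c⁻¹ • M w) = 0) :
    conjL h (siegel Q u w hu hw) = siegel Q (M u) (c⁻¹ • M w) hu' hw' := by
  ext v
  obtain ⟨v, rfl⟩ := M.surjective v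
  rw [conjL_apply', siegel_apply, siegel_apply, map_sub, map_sub, map_add, h.smul, h.smul, h.smul,
    h.polar, QuadraticMap.map_smul, h.form, polar_smul_left, h.polar]
  have hc := h.ne
  rw [smul_smul, map_mul]
  have e1 : c * σ (QuadraticMap.polar Q u v) * c⁻¹ = σ (QuadraticMap.polar Q u v) := by
    field_simp
  have e2 : c⁻¹ • (c * σ (QuadraticMap.polar Q w v)) = σ (QuadraticMap.polar Q w v) := by
    rw [smul_eq_mul]; field_simp
  have e3 : (c⁻¹ * c⁻¹) • (c * σ (Q w)) * (c * σ (QuadraticMap.polar Q u v)) =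
      σ (Q w) * σ (QuadraticMap.polar Q u v) := by
    rw [smul_eq_mul]; field_simp
  rw [e1, e2, e3]

theorem conjL_mul {M : V ≃+ V} {σ : F ≃+* F} {c : F} (h : IsSemi Q M σ c) (g g' : V ≃ₗ[F] V) :
    conjL h (g * g') = conjL h g * conjL h g' := by
  ext v
  change M (g (g' (M.symm v))) = M (g (M.symm (M (g' (M.symm v)))))
  rw [AddEquiv.symm_apply_apply]

/-- Conjugation as a homomorphism. -/
def conjLHom {M : V ≃+ V} {σ : F ≃+* F} {c : F} (h : IsSemi Q M σ c) :
    (V ≃ₗ[F] V) →* (V ≃ₗ[F] V) where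
  toFun := conjL h
  map_one' := by
    ext v
    change M (M.symm v) = v
    simp
  map_mul' := conjL_mul h

theorem conjL_mem_E {M : V ≃+ V} {σ : F ≃+* F} {c : F} (h : IsSemi Q M σ c) {g : V ≃ₗ[F] V}
    (hg : g ∈ E Q) : conjL h g ∈ E Q := by
  have h1 : E Q ≤ (E Q).comap (conjLHom h) := by
    rw [E, Subgroup.closure_le]
    rintro _ ⟨u, w, hu, hw, rfl⟩
    have hu' : Q (M u) = 0 := by rw [h.form, hu, map_zero, mul_zero]
    have hw' : QuadraticMap.polar Q (M u) (c⁻¹ • M w) = 0 := by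
      rw [polar_smul_right, h.polar, hw]; simp
    change conjL h (siegel Q u w hu hw) ∈ E Q
    rw [conjL_siegel h hu hw hu' hw']
    exact siegel_mem_E _ _
  exact h1 hg

/-- The automorphism of `E Q` given by a semisimilarity. -/
def conjE {M : V ≃+ V} {σ : F ≃+* F} {c : F} (h : IsSemi Q M σ c) : MulAut ↥(E Q) where
  toFun g := ⟨conjL h g, conjL_mem_E h g.2⟩
  invFun g := ⟨conjL h.symm g, conjL_mem_E h.symm g.2⟩
  left_inv g := by
    refine ext_E fun v => ?_
    change M.symm (M ((g : V ≃ₗ[F] V) (M.symm (M.symm.symm v)))) = _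
    rw [AddEquiv.symm_apply_apply, AddEquiv.symm_symm, AddEquiv.symm_apply_apply]
  right_inv g := by
    refine ext_E fun v => ?_
    change M (M.symm ((g : V ≃ₗ[F] V) (M.symm.symm (M.symm v)))) = _
    rw [AddEquiv.apply_symm_apply, AddEquiv.symm_symm, AddEquiv.apply_symm_apply]
  map_mul' g g' := Subtype.ext (conjL_mul h g g')

theorem conjE_apply {M : V ≃+ V} {σ : F ≃+* F} {c : F} (h : IsSemi Q M σ c) (g : ↥(E Q)) (v : V) :
    (conjE h g : V ≃ₗ[F] V) (M v) = M ((g : V ≃ₗ[F] V) v) :=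
  conjL_apply' h g v

theorem conjE_sg {M : V ≃+ V} {σ : F ≃+* F} {c : F} (h : IsSemi Q M σ c) {u w : V}
    (hu : Q u = 0) (hw : QuadraticMap.polar Q u w = 0) (hu' : Q (M u) = 0)
    (hw' : QuadraticMap.polar Q (M u) (c⁻¹ • M w) = 0) :
    conjE h (sg Q u w hu hw) = sg Q (M u) (c⁻¹ • M w) hu' hw' :=
  Subtype.ext (conjL_siegel h hu hw hu' hw')

/-- Automorphisms of `E Q` descend to quotients by the centre. -/
theorem exists_descend {G P : Type*} [Group G] [Group P] (π : G →* P)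
    (hπ : Function.Surjective π) (hker : π.ker = Subgroup.center G) (θ : MulAut G) :
    ∃ β : MulAut P, ∀ g, β (π g) = π (θ g) := by
  have hmap : π.ker.map θ.toMonoidHom = π.ker := by
    rw [hker]
    exact (Subgroup.characteristic_iff_map_eq.1 inferInstance θ)
  let e := QuotientGroup.quotientKerEquivOfSurjective π hπ
  have he : ∀ g, e (QuotientGroup.mk g) = π g := fun g => rfl
  refine ⟨(e.symm.trans (QuotientGroup.congr π.ker π.ker θ hmap)).trans e, fun g => ?_⟩
  have h1 : e.symm (π g) = QuotientGroup.mk g := by rw [← he g, MulEquiv.symm_apply_apply]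
  change e (QuotientGroup.congr π.ker π.ker θ hmap (e.symm (π g))) = _
  rw [h1]
  rfl

end Cfsg.Agent.AutOrth.SemiSim
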