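import Mathlib
import Cfsg.Agent.AutOrth.SemiSim

/-!
`E Q` is generated by two opposite Siegel subgroups; recognition of points and of orthogonality of
points by Siegel subgroups modulo scalars.
-/

set_option autoImplicit false

namespace Cfsg.Agent.AutOrth.Gen

open QuadraticMap Cfsg.Agent.LieClassical.OrthCore Cfsg.Agent.LieClassical.OrthTrans
  Cfsg.Agent.LieClassical.OrthSimple Cfsg.Agent.AutOrth.SemiSim

variable {F V : Type*} [Field F] [AddCommGroup V] [Module F V] {Q : QuadraticForm F V}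

/-- A nonsingular vector orthogonal to a hyperbolic pair. -/
theorem exists_nonsing_perp (hG : Good Q) {x y : V} (h : Hyp Q x y) :
    ∃ w, Q w ≠ 0 ∧ polar Q x w = 0 ∧ polar Q y w = 0 := by
  obtain ⟨a, c, ha1, ha2, hc1, hc2, hac⟩ := exists_perp2 hG.nondeg
    (by have := hG.dim; omega) h
  rcases exists_nonsing hac with h | h | h
  · exact ⟨a, h, ha1, ha2⟩
  · exact ⟨c, h, hc1, hc2⟩
  · exact ⟨a + c, h, by rw [polar_add_right, ha1, hc1, add_zero],
      by rw [polar_add_right, ha2, hc2, add_zero]⟩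

/-- Orbit of the point `x` under `N`. -/
def Reach (N : Subgroup ↥(E Q)) (x z : V) : Prop :=
  ∃ n ∈ N, ∃ a : F, a ≠ 0 ∧ (n : V ≃ₗ[F] V) x = a • z

theorem Reach.refl' (N : Subgroup ↥(E Q)) (x : V) : Reach N x x :=
  ⟨1, N.one_mem, 1, one_ne_zero, by rw [one_smul]; rfl⟩

theorem Reach.trans' {N : Subgroup ↥(E Q)} {x y z : V} (h : Reach N x y) (h' : Reach N y z) :
    Reach N x z := by
  obtain ⟨n, hn, a, ha, e⟩ := h
  obtain ⟨m, hm, b, hb, e'⟩ := h'
  refine ⟨m * n, N.mul_mem hm hn, a * b, mul_ne_zero ha hb, ?_⟩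
  change (m : V ≃ₗ[F] V) ((n : V ≃ₗ[F] V) x) = _
  rw [e, map_smul, e', smul_smul]

theorem Reach.symm' {N : Subgroup ↥(E Q)} {x y : V} (h : Reach N x y) : Reach N y x := by
  obtain ⟨n, hn, a, ha, e⟩ := h
  refine ⟨n⁻¹, N.inv_mem hn, a⁻¹, inv_ne_zero ha, ?_⟩
  change (n : V ≃ₗ[F] V).symm y = _
  rw [LinearEquiv.symm_apply_eq, map_smul, e, smul_smul, inv_mul_cancel₀ ha, one_smul]

/-- Two opposite Siegel subgroups generate. -/
theorem sup_RS_eq_top (hG : Good Q) {e f : V} (h : Hyp Q e f) :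
    RS Q e h.left ⊔ RS Q f h.right = ⊤ := by
  set N := RS Q e h.left ⊔ RS Q f h.right with hN
  have he : RS Q e h.left ≤ N := le_sup_left
  have hf : RS Q f h.right ≤ N := le_sup_right
  -- opposite to `e`
  have step : ∀ {e f : V} (h : Hyp Q e f), RS Q e h.left ≤ N → ∀ z, Q z = 0 → polar Q e z ≠ 0 →
      Reach N f z := by
    intro e f h he z hz hez
    have hyp : Hyp Q e ((polar Q e z)⁻¹ • z) := by
      refine ⟨h.left, ?_, ?_⟩
      · rw [QuadraticMap.map_smul, hz, smul_zero]
      · rw [polar_smul_right, smul_eq_mul, inv_mul_cancel₀ hez]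
    have hw : polar Q e ((polar Q e z)⁻¹ • z - f) = 0 := by
      rw [polar_sub_right, h.pair, hyp.pair, sub_self]
    refine ⟨sg Q e _ h.left hw, he (sg_mem_RS _ _), (polar Q e z)⁻¹, inv_ne_zero hez, ?_⟩
    set y' := (polar Q e z)⁻¹ • z with hy'
    have hQ' : Q (y' - f) = - polar Q y' f := by
      rw [sub_eq_add_neg, Q_add, QuadraticMap.map_neg, polar_neg_right, h.right, hyp.right]
      ring
    rw [sg_apply, h.pair, hQ', polar_sub_left, h.polar_right]
    module
  have step1 := step h he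
  have step2 := step h.symm hf
  -- `e` and `f` are in the same orbit
  obtain ⟨w, hw, hew, hfw⟩ := exists_nonsing_perp hG h
  have hp : Q (e + w - Q w • f) = 0 := sing_vec h hew hfw
  have hef : Reach N e f := by
    refine (step2 _ hp ?_).trans' (step1 _ hp ?_).symm'
    · rw [polar_sub_right, polar_add_right, polar_smul_right, h.pair', hfw, h.polar_right]
      simp
    · rw [polar_sub_right, polar_add_right, polar_smul_right, h.pair, hew, h.polar_left]
      simpa using hw
  have hall : ∀ z, Q z = 0 → z ≠ 0 → Reach N e z := by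
    intro z hz hz0
    by_cases h1 : polar Q f z = 0
    · by_cases h2 : polar Q e z = 0
      · obtain ⟨y, hyz⟩ := hG.nondeg.exists_polar_ne hz0
        -- project `y`
        have hy1 : polar Q e (proj Q e f y) = 0 := polar_proj_left h y
        have hy2 : polar Q z (proj Q e f y) ≠ 0 := by
          rw [polar_proj_of_perp h2 h1]; exact hyz
        have hQz : Q ((sg Q e _ h.left hy1 : V ≃ₗ[F] V) z) = 0 := by
          rw [mem_O.1 (E_le_O (sg Q e _ h.left hy1).2)]; exact hz
        have hfz : polar Q f ((sg Q e _ h.left hy1 : V ≃ₗ[F] V) z) ≠ 0 := by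
          rw [sg_apply, h2, polar_sub_right, polar_sub_right, polar_add_right, polar_smul_right,
            polar_smul_right, polar_smul_right, h1, h.pair', polar_comm Q _ z]
          simpa using hy2
        have h3 := step2 _ hQz hfz
        refine h3.trans' ?_
        refine Reach.symm' ⟨sg Q e _ h.left hy1, he (sg_mem_RS _ _), 1, one_ne_zero, ?_⟩
        rw [one_smul]
      · exact hef.trans' (step1 z hz h2)
    · exact step2 z hz h1
  -- all Siegel elements
  rw [eq_top_iff]
  rintro ⟨g, hg⟩ -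
  have key : E Q ≤ N.map (E Q).subtype := by
    refine (Subgroup.closure_le _).2 ?_
    rintro _ ⟨u, w, hu, hw, rfl⟩
    by_cases hu0 : u = 0
    · subst hu0
      have : siegel Q 0 w hu hw = 1 := by
        ext v
        rw [siegel_apply]
        simp
      rw [this]
      exact Subgroup.one_mem _
    obtain ⟨n, hn, a, ha, e1⟩ := hall u hu hu0
    have hu' : Q ((n : V ≃ₗ[F] V) e) = 0 := by
      rw [mem_O.1 (E_le_O n.2)]; exact h.left
    have hau : Q (a • u) = 0 := by rw [QuadraticMap.map_smul, hu, smul_zero]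
    have h1 : sg Q u w hu hw ∈ RS Q ((n : V ≃ₗ[F] V) e) hu' := by
      rw [RS_congr e1 hu' hau, RS_smul ha hu hau]
      exact sg_mem_RS hu hw
    rw [← map_conj_RS n h.left hu'] at h1
    obtain ⟨r, hr, hr'⟩ := h1
    refine ⟨sg Q u w hu hw, ?_, rfl⟩
    rw [← hr']
    exact N.mul_mem (N.mul_mem hn (he hr)) (N.inv_mem hn)
  obtain ⟨n, hn, hn'⟩ := key hg
  have : n = ⟨g, hg⟩ := Subtype.ext hn'
  rw [← this]
  exact hn

/-! ### Points from Siegel subgroups -/

section Quot

variable {P : Type*} [Group P] {π : ↥(E Q) →* P}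

/-- Elements of the centre are scalar. -/
theorem scalar_of_center (hG : Good Q) {g : ↥(E Q)} (hg : g ∈ Subgroup.center ↥(E Q)) :
    ∃ c : F, ∀ v, (g : V ≃ₗ[F] V) v = c • v := by
  refine good_eq_smul_of_fix hG fun x hx => ?_
  by_cases hx0 : x = 0
  · exact ⟨0, by rw [hx0]; simp⟩
  have hgx : Q ((g : V ≃ₗ[F] V) x) = 0 := by rw [mem_O.1 (E_le_O g.2)]; exact hx
  by_contra hcon
  push Not at hcon
  have hcomm : ∀ (y : V) (hy : polar Q x y = 0),
      polar Q x ((g : V ≃ₗ[F] V) x) • y =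
        (polar Q y ((g : V ≃ₗ[F] V) x) + Q y * polar Q x ((g : V ≃ₗ[F] V) x)) • x := by
    intro y hy
    have hc := Subgroup.mem_center_iff.1 hg (sg Q x y hx hy)
    have h1 := congrArg (fun t : ↥(E Q) => (t : V ≃ₗ[F] V) x) hc
    have h2 : (sg Q x y hx hy : V ≃ₗ[F] V) ((g : V ≃ₗ[F] V) x) =
        (g : V ≃ₗ[F] V) ((sg Q x y hx hy : V ≃ₗ[F] V) x) := h1
    rw [sg_self, sg_apply] at h2
    set t := polar Q x ((g : V ≃ₗ[F] V) x) with ht
    set s := polar Q y ((g : V ≃ₗ[F] V) x) with hs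
    have : t • y - (s + Q y * t) • x =
      ((g : V ≃ₗ[F] V) x + t • y - s • x - (Q y * t) • x) - (g : V ≃ₗ[F] V) x := by
      module
    rw [← sub_eq_zero, this, h2, sub_self]
  by_cases ht : polar Q x ((g : V ≃ₗ[F] V) x) = 0
  · obtain ⟨y, hy1, hy2⟩ := exists_sep hG.nondeg hcon
    have h1 := hcomm y hy1
    rw [ht, polar_comm Q y, hy2] at h1
    simp at h1
    exact hx0 h1.symm
  · obtain ⟨x', hx'⟩ := exists_hyp hG.nondeg hx hx0
    obtain ⟨w, hw, hxw, hx'w⟩ := exists_nonsing_perp hG hx'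
    have h1 := hcomm w hxw
    have h2 := congrArg (polar Q x') h1
    rw [polar_smul_right, polar_smul_right, hx'w, hx'.pair'] at h2
    simp only [smul_eq_mul, mul_zero, mul_one] at h2
    rw [← h2, zero_smul] at h1
    rcases smul_eq_zero.1 h1 with h3 | h3
    · exact ht h3
    · rw [h3] at hw
      simp at hw

/-- The kernel hypothesis used below. -/
def KerScalar (π : ↥(E Q) →* P) : Prop :=
  ∀ g : ↥(E Q), π g = 1 → ∃ c : F, ∀ v, (g : V ≃ₗ[F] V) v = c • v

theorem kerScalar_of_ker (hG : Good Q) (hker : π.ker = Subgroup.center ↥(E Q)) :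
    KerScalar π := by
  intro g hg
  refine scalar_of_center hG ?_
  rw [← hker]
  exact hg

theorem scalar_of_eq (hk : KerScalar π) {g h : ↥(E Q)} (hgh : π g = π h) :
    ∃ c : F, ∀ v, (g : V ≃ₗ[F] V) v = c • (h : V ≃ₗ[F] V) v := by
  obtain ⟨c, hc⟩ := hk (h⁻¹ * g) (by rw [map_mul, map_inv, hgh, inv_mul_cancel])
  refine ⟨c, fun v => ?_⟩
  have h1 := hc v
  have h2 : (h : V ≃ₗ[F] V) (((h⁻¹ * g : ↥(E Q)) : V ≃ₗ[F] V) v) = (g : V ≃ₗ[F] V) v := by
    change (h : V ≃ₗ[F] V) ((h : V ≃ₗ[F] V).symm ((g : V ≃ₗ[F] V) v)) = _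
    exact LinearEquiv.apply_symm_apply _ _
  rw [← h2, h1, map_smul]

/-- Two Siegel elements at the same point agreeing modulo scalars. -/
theorem mem_line_of_eq (hQ : Nondeg Q) (hk : KerScalar π) {u w w' : V} (hu : Q u = 0)
    (hu0 : u ≠ 0) (hw : polar Q u w = 0) (hw' : polar Q u w' = 0)
    (h : π (sg Q u w hu hw) = π (sg Q u w' hu hw')) : ∃ a : F, w - w' = a • u := by
  have hn : polar Q u (-w') = 0 := by rw [polar_neg_right, hw', neg_zero]
  have hs : polar Q u (w + -w') = 0 := by rw [polar_add_right, hw, hn, add_zero]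
  have h1 : π (sg Q u (w + -w') hu hs) = 1 := by
    rw [← sg_mul hu hw hn hs, ← sg_inv hu hw' hn, map_mul, map_inv, h, mul_inv_cancel]
  obtain ⟨c, hc⟩ := hk _ h1
  obtain ⟨a, ha⟩ := mem_line_of_scalar hQ hu hu0 hs hc
  exact ⟨a, by rw [sub_eq_add_neg, ha]⟩

theorem map_eq_of_line {u w w' : V} (hu : Q u = 0) (hw : polar Q u w = 0)
    (hw' : polar Q u w' = 0) {a : F} (h : w - w' = a • u) :
    sg Q u w hu hw = sg Q u w' hu hw' := by
  have e : w = w' + a • u := by rw [← h]; abel
  have h1 : polar Q u (w' + a • u) = 0 := by rw [← e]; exact hw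
  rw [sg_congr hu hw hu h1 rfl e, sg_add_smul]

/-- Siegel subgroups modulo scalars determine their points. -/
theorem point_unique (hG : Good Q) (hk : KerScalar π) {u v : V} (hu : Q u = 0) (hv : Q v = 0)
    (hu0 : u ≠ 0) (hv0 : v ≠ 0) (h : (RS Q u hu).map π = (RS Q v hv).map π) :
    ∃ a : F, a ≠ 0 ∧ v = a • u := by
  -- every Siegel element at `u` fixes the point `v`
  have hfix : ∀ (w : V) (hw : polar Q u w = 0),
      ∃ c : F, (sg Q u w hu hw : V ≃ₗ[F] V) v = c • v := by
    intro w hw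
    have h1 : π (sg Q u w hu hw) ∈ (RS Q v hv).map π := by
      rw [← h]; exact Subgroup.mem_map_of_mem π (sg_mem_RS hu hw)
    obtain ⟨g, ⟨z, hz, rfl⟩, hg⟩ := h1
    obtain ⟨c, hc⟩ := scalar_of_eq hk hg.symm
    exact ⟨c, by rw [hc v, sg_self]⟩
  by_contra hcon
  push Not at hcon
  have hind : ∀ a : F, v ≠ a • u := by
    intro a
    by_cases ha : a = 0
    · rw [ha, zero_smul]; exact hv0
    · exact hcon a ha
  by_cases huv : polar Q u v = 0
  · obtain ⟨y, hy1, hy2⟩ := exists_sep hG.nondeg hind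
    obtain ⟨c, hc⟩ := hfix y hy1
    rw [sg_apply, huv, polar_comm Q y v, hy2] at hc
    have h2 : (1 - c) • v = u := by
      have : (1 - c) • v - u = (v + (0 : F) • y - (1 : F) • u - (Q y * 0) • u) - c • v := by
        module
      rw [← sub_eq_zero, this, hc, sub_self]
    have hc1 : 1 - c ≠ 0 := by
      intro h0; rw [h0, zero_smul] at h2; exact hu0 h2.symm
    exact hind (1 - c)⁻¹ (by rw [← h2, smul_smul, inv_mul_cancel₀ hc1, one_smul])
  · have hyp : Hyp Q u ((polar Q u v)⁻¹ • v) := by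
      refine ⟨hu, ?_, ?_⟩
      · rw [QuadraticMap.map_smul, hv, smul_zero]
      · rw [polar_smul_right, smul_eq_mul, inv_mul_cancel₀ huv]
    obtain ⟨a, c, ha1, ha2, hc1, hc2, hac⟩ := exists_perp2 hG.nondeg
      (by have := hG.dim; omega) hyp
    have hva : polar Q v a = 0 := by
      rw [polar_smul_left, smul_eq_mul] at ha2
      exact (mul_eq_zero.1 ha2).resolve_left (inv_ne_zero huv)
    have hvc : polar Q v c = 0 := by
      rw [polar_smul_left, smul_eq_mul] at hc2
      exact (mul_eq_zero.1 hc2).resolve_left (inv_ne_zero huv)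
    obtain ⟨d, hd⟩ := hfix a ha1
    rw [sg_apply] at hd
    have h1 := congrArg (fun t => polar Q t c) hd
    simp only [polar_sub_left, polar_add_left, polar_smul_left, hvc, hc1, hac, smul_eq_mul] at h1
    simp at h1
    exact huv h1

/-- Orthogonality of points in terms of Siegel subgroups modulo scalars. -/
theorem perp_iff (hG : Good Q) (hk : KerScalar π) {u v : V} (hu : Q u = 0) (hv : Q v = 0)
    (hu0 : u ≠ 0) (hv0 : v ≠ 0) :
    polar Q u v = 0 ↔ (RS Q u hu).map π ⊓ (RS Q v hv).map π ≠ ⊥ := by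
  constructor
  · intro huv
    rw [Ne, Subgroup.eq_bot_iff_forall]
    push Not
    by_cases hind : ∀ a : F, v ≠ a • u
    · have hvu : polar Q v (-u) = 0 := by
        rw [polar_neg_right, polar_comm, huv, neg_zero]
      refine ⟨π (sg Q u v hu huv), ⟨Subgroup.mem_map_of_mem π (sg_mem_RS hu huv), ?_⟩, ?_⟩
      · have : sg Q u v hu huv = sg Q v (-u) hv hvu := by
          refine ext_E fun x => ?_
          rw [sg_apply, sg_apply, hv, QuadraticMap.map_neg, hu, polar_neg_left]
          module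
        rw [this]
        exact Subgroup.mem_map_of_mem π (sg_mem_RS hv hvu)
      · intro h1
        obtain ⟨c, hc⟩ := hk _ h1
        obtain ⟨a, ha⟩ := mem_line_of_scalar hG.nondeg hu hu0 huv hc
        exact hind a ha
    · push Not at hind
      obtain ⟨a, rfl⟩ := hind
      have ha : a ≠ 0 := by rintro rfl; simp at hv0
      rw [RS_smul ha hu hv]
      obtain ⟨u', hu'⟩ := exists_hyp hG.nondeg hu hu0
      obtain ⟨w, hw, huw, hu'w⟩ := exists_nonsing_perp hG hu'
      refine ⟨π (sg Q u w hu huw), ⟨Subgroup.mem_map_of_mem π (sg_mem_RS hu huw),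
        Subgroup.mem_map_of_mem π (sg_mem_RS hu huw)⟩, fun h1 => ?_⟩
      obtain ⟨c, hc⟩ := hk _ h1
      obtain ⟨b, hb⟩ := mem_line_of_scalar hG.nondeg hu hu0 huw hc
      rw [hb, QuadraticMap.map_smul, hu, smul_zero] at hw
      exact hw rfl
  · intro hne
    by_contra huv
    apply hne
    rw [Subgroup.eq_bot_iff_forall]
    rintro _ ⟨⟨_, ⟨w, hw, rfl⟩, rfl⟩, ⟨_, ⟨z, hz, rfl⟩, h2⟩⟩
    obtain ⟨c, hc⟩ := scalar_of_eq hk h2.symm
    have h3 := hc v
    rw [sg_self, sg_apply] at h3
    -- `w` is a multiple of `u` modulo `v`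
    have h4 : polar Q u v • w = (c - 1) • v + (polar Q w v + Q w * polar Q u v) • u := by
      set t := polar Q u v
      set s := polar Q w v
      have : t • w - ((c - 1) • v + (s + Q w * t) • u) =
        (v + t • w - s • u - (Q w * t) • u) - c • v := by module
      rw [← sub_eq_zero, this, h3, sub_self]
    have h5 := congrArg (polar Q u) h4
    rw [polar_smul_right, hw, polar_add_right, polar_smul_right, polar_smul_right,
      polar_self_of_sing hu] at h5
    simp only [smul_eq_mul, mul_zero, add_zero] at h5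
    have h6 : c - 1 = 0 := (mul_eq_zero.1 h5.symm).resolve_right huv
    rw [h6, zero_smul, zero_add] at h4
    have h7 : w = ((polar Q u v)⁻¹ * (polar Q w v + Q w * polar Q u v)) • u := by
      rw [mul_smul, ← h4, smul_smul, inv_mul_cancel₀ huv, one_smul]
    have h8 : sg Q u w hu hw = 1 := by
      rw [← sg_zero hu (by simp)]
      exact map_eq_of_line hu hw _ (a := (polar Q u v)⁻¹ * (polar Q w v + Q w * polar Q u v))
        (by rw [sub_zero]; exact h7)
    rw [h8, map_one]

end Quot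

end Cfsg.Agent.AutOrth.Gen
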