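import Mathlib
import Cfsg.Agent.AutOrth.Gen

/-!
Automorphisms of `E Q` modulo scalars which permute the Siegel subgroups are induced by
semisimilarities.
-/

set_option autoImplicit false

namespace Cfsg.Agent.AutOrth.Extend

open QuadraticMap Cfsg.Agent.LieClassical.OrthCore Cfsg.Agent.LieClassical.OrthTrans
  Cfsg.Agent.LieClassical.OrthSimple Cfsg.Agent.AutOrth.SemiSim Cfsg.Agent.AutOrth.Gen

variable {F V : Type*} [Field F] [AddCommGroup V] [Module F V] {Q : QuadraticForm F V}
variable {P : Type*} [Group P] {π : ↥(E Q) →* P}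

/-! ### The relation between points -/

/-- `α` carries the Siegel subgroup of `u` to that of `u'`. -/
def Carries (π : ↥(E Q) →* P) (α : MulAut P) (u u' : V) : Prop :=
  ∃ (hu : Q u = 0) (hu' : Q u' = 0), u' ≠ 0 ∧
    ((RS Q u hu).map π).map α.toMonoidHom = (RS Q u' hu').map π

theorem Carries.map {α : MulAut P} {u u' : V} (h : Carries π α u u') {g g' : ↥(E Q)}
    (hg : α (π g) = π g') :
    Carries π α ((g : V ≃ₗ[F] V) u) ((g' : V ≃ₗ[F] V) u') := by
  obtain ⟨hu, hu', hu0, h⟩ := h
  have h1 : Q ((g : V ≃ₗ[F] V) u) = 0 := by rw [mem_O.1 (E_le_O g.2)]; exact hu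
  have h2 : Q ((g' : V ≃ₗ[F] V) u') = 0 := by rw [mem_O.1 (E_le_O g'.2)]; exact hu'
  refine ⟨h1, h2, by simpa using hu0, ?_⟩
  rw [← map_conj_RS g hu h1, ← map_conj_RS g' hu' h2]
  have e1 : ∀ (x : ↥(E Q)) (K : Subgroup ↥(E Q)),
      (K.map (MulAut.conj x).toMonoidHom).map π = (K.map π).map (MulAut.conj (π x)).toMonoidHom := by
    intro x K
    rw [Subgroup.map_map, Subgroup.map_map]
    congr 1
    ext y
    simp
  have e2 : ∀ (x : P) (K : Subgroup P),
      (K.map (MulAut.conj x).toMonoidHom).map α.toMonoidHom =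
        (K.map α.toMonoidHom).map (MulAut.conj (α x)).toMonoidHom := by
    intro x K
    rw [Subgroup.map_map, Subgroup.map_map]
    congr 1
    ext y
    simp
  rw [e1, e1, e2, h, hg]

theorem Carries.unique (hG : Good Q) (hk : KerScalar π) {α : MulAut P} {u u' u'' : V}
    (h : Carries π α u u') (h' : Carries π α u u'') : ∃ a : F, a ≠ 0 ∧ u'' = a • u' := by
  obtain ⟨hu, hu', hu0, h⟩ := h
  obtain ⟨_, hu'', hu0', h'⟩ := h'
  exact point_unique hG hk hu' hu'' hu0 hu0' (by rw [← h, ← h'])

theorem Carries.smul_left {α : MulAut P} {u u' : V} (h : Carries π α u u') {a : F} (ha : a ≠ 0) :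
    Carries π α (a • u) u' := by
  obtain ⟨hu, hu', hu0, h⟩ := h
  have hau : Q (a • u) = 0 := by rw [QuadraticMap.map_smul, hu, smul_zero]
  exact ⟨hau, hu', hu0, by rw [RS_smul ha hu hau]; exact h⟩

theorem Carries.smul_right {α : MulAut P} {u u' : V} (h : Carries π α u u') {a : F} (ha : a ≠ 0) :
    Carries π α u (a • u') := by
  obtain ⟨hu, hu', hu0, h⟩ := h
  have hau : Q (a • u') = 0 := by rw [QuadraticMap.map_smul, hu', smul_zero]
  exact ⟨hu, hau, smul_ne_zero ha hu0, by rw [RS_smul ha hu' hau]; exact h⟩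

theorem Carries.comp {α β : MulAut P} {u v w : V} (h : Carries π α u v) (h' : Carries π β v w) :
    Carries π (β * α) u w := by
  obtain ⟨hu, hv, hv0, h⟩ := h
  obtain ⟨_, hw, hw0, h'⟩ := h'
  refine ⟨hu, hw, hw0, ?_⟩
  have e : (β * α).toMonoidHom = β.toMonoidHom.comp α.toMonoidHom := rfl
  rw [e, ← Subgroup.map_map, h, h']

theorem Carries.inv {α : MulAut P} {u v : V} (h : Carries π α u v) (hu0 : u ≠ 0) :
    Carries π α⁻¹ v u := by
  obtain ⟨hu, hv, hv0, h⟩ := h
  refine ⟨hv, hu, hu0, ?_⟩
  rw [← h, Subgroup.map_map]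
  have : (α⁻¹ : MulAut P).toMonoidHom.comp α.toMonoidHom = MonoidHom.id P := by
    ext x
    change α⁻¹ (α x) = x
    exact MulEquiv.symm_apply_apply α x
  rw [this, Subgroup.map_id]

theorem Carries.perp (hG : Good Q) (hk : KerScalar π) {α : MulAut P} {u u' v v' : V}
    (h : Carries π α u u') (h' : Carries π α v v') (hu0 : u ≠ 0) (hv0 : v ≠ 0) :
    polar Q u v = 0 ↔ polar Q u' v' = 0 := by
  obtain ⟨hu, hu', hu0', h⟩ := h
  obtain ⟨hv, hv', hv0', h'⟩ := h'
  rw [perp_iff hG hk hu hv hu0 hv0, perp_iff hG hk hu' hv' hu0' hv0', ← h, ← h',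
    ← Subgroup.map_inf ((RS Q u hu).map π) ((RS Q v hv).map π) α.toMonoidHom α.injective, Ne, Ne,
    Subgroup.map_eq_bot_iff_of_injective _ α.injective]

/-! ### The complement of a hyperbolic pair -/

/-- The orthogonal complement of `e, f`. -/
def W (Q : QuadraticForm F V) (e f : V) : Submodule F V :=
  LinearMap.ker (polarBilin Q e) ⊓ LinearMap.ker (polarBilin Q f)

theorem mem_W {e f v : V} : v ∈ W Q e f ↔ polar Q e v = 0 ∧ polar Q f v = 0 := by
  simp [W, LinearMap.mem_ker]

theorem W_left {e f : V} (w : W Q e f) : polar Q e (w : V) = 0 := (mem_W.1 w.2).1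

theorem W_right {e f : V} (w : W Q e f) : polar Q f (w : V) = 0 := (mem_W.1 w.2).2

theorem proj_mem_W {e f : V} (h : Hyp Q e f) (v : V) : proj Q e f v ∈ W Q e f :=
  mem_W.2 ⟨polar_proj_left h v, polar_proj_right h v⟩

theorem eq_zero_of_mem_W {e f : V} (h : Hyp Q e f) {a : F} (ha : a • e ∈ W Q e f) : a = 0 := by
  have := (mem_W.1 ha).2
  rw [polar_smul_right, h.pair'] at this
  simpa using this

theorem sg_proj {e f : V} (h : Hyp Q e f) {z : V} (hz : polar Q e z = 0)
    (hz' : polar Q e (proj Q e f z) = 0) :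
    sg Q e z h.left hz = sg Q e (proj Q e f z) h.left hz' := by
  refine map_eq_of_line (a := polar Q f z) h.left hz hz' ?_
  change z - (z - polar Q f z • e - polar Q e z • f) = _
  rw [hz]
  module

/-- An automorphism fixing the Siegel subgroup of `e` acts on the complement of `e, f`. -/
theorem exists_addEquiv (hG : Good Q) (hk : KerScalar π) {e f : V} (h : Hyp Q e f) (α : MulAut P)
    (he : Carries π α e e) : ∃ φ : W Q e f ≃+ W Q e f, ∀ w : W Q e f,
      α (π (sg Q e w h.left (W_left w))) = π (sg Q e (φ w) h.left (W_left (φ w))) := by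
  obtain ⟨_, _, -, he⟩ := he
  have hinj : ∀ w w' : W Q e f, π (sg Q e w h.left (W_left w)) =
      π (sg Q e w' h.left (W_left w')) → w = w' := by
    intro w w' hww
    obtain ⟨a, ha⟩ := mem_line_of_eq hG.nondeg hk h.left h.left_ne (W_left w) (W_left w') hww
    have h1 : a • e ∈ W Q e f := by rw [← ha]; exact (w - w').2
    rw [eq_zero_of_mem_W h h1, zero_smul, sub_eq_zero] at ha
    exact Subtype.ext ha
  have hex : ∀ w : W Q e f, ∃ w' : W Q e f,
      α (π (sg Q e w h.left (W_left w))) = π (sg Q e w' h.left (W_left w')) := by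
    intro w
    have h1 : α (π (sg Q e w h.left (W_left w))) ∈ (RS Q e h.left).map π := by
      rw [← he]
      exact Subgroup.mem_map_of_mem _ (Subgroup.mem_map_of_mem _ (sg_mem_RS _ _))
    obtain ⟨_, ⟨z, hz, rfl⟩, hz'⟩ := h1
    refine ⟨⟨proj Q e f z, proj_mem_W h z⟩, ?_⟩
    rw [← hz', sg_proj h hz (polar_proj_left h z)]
  have hsurj : ∀ w' : W Q e f, ∃ w : W Q e f,
      α (π (sg Q e w h.left (W_left w))) = π (sg Q e w' h.left (W_left w')) := by
    intro w'
    have h1 : π (sg Q e w' h.left (W_left w')) ∈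
        ((RS Q e h.left).map π).map α.toMonoidHom := by
      rw [he]
      exact Subgroup.mem_map_of_mem _ (sg_mem_RS _ _)
    obtain ⟨_, ⟨_, ⟨z, hz, rfl⟩, rfl⟩, hz'⟩ := h1
    refine ⟨⟨proj Q e f z, proj_mem_W h z⟩, ?_⟩
    rw [← hz', sg_proj h hz (polar_proj_left h z)]
    rfl
  choose φ hφ using hex
  have hadd : ∀ w w', φ (w + w') = φ w + φ w' := by
    intro w w'
    apply hinj
    rw [← hφ]
    have h1 : sg Q e ((w + w' : W Q e f) : V) h.left (W_left (w + w')) =
        sg Q e w h.left (W_left w) * sg Q e w' h.left (W_left w') :=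
      (sg_mul _ _ _ _).symm
    have h2 : sg Q e ((φ w + φ w' : W Q e f) : V) h.left (W_left (φ w + φ w')) =
        sg Q e (φ w) h.left (W_left (φ w)) * sg Q e (φ w') h.left (W_left (φ w')) :=
      (sg_mul _ _ _ _).symm
    rw [h1, h2, map_mul, map_mul, map_mul, hφ, hφ]
  let φ' : W Q e f →+ W Q e f := AddMonoidHom.mk' φ hadd
  have hbij : Function.Bijective φ' := by
    constructor
    · intro w w' hww
      apply hinj
      apply α.injective
      rw [hφ, hφ]
      have : φ w = φ w' := hww
      rw [this]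
    · intro w'
      obtain ⟨w, hw⟩ := hsurj w'
      refine ⟨w, hinj _ _ ?_⟩
      change π (sg Q e (φ w) _ _) = _
      rw [← hφ, hw]
  exact ⟨AddEquiv.ofBijective φ' hbij, hφ⟩

theorem sg_apply_partner {e f : V} (h : Hyp Q e f) {w : V} (hw : polar Q e w = 0)
    (hw' : polar Q f w = 0) : (sg Q e w h.left hw : V ≃ₗ[F] V) f = f + w - Q w • e := by
  rw [sg_apply, h.pair, polar_comm Q w f, hw']
  module

/-! ### The main argument -/

/-- Coordinates with respect to a hyperbolic pair. -/
def projW {e f : V} (h : Hyp Q e f) (v : V) : W Q e f := ⟨_, proj_mem_W h v⟩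

theorem projW_coe {e f : V} (h : Hyp Q e f) (v : V) :
    (projW h v : V) = v - polar Q f v • e - polar Q e v • f := rfl

theorem decomp {e f : V} (h : Hyp Q e f) (v : V) :
    v = polar Q f v • e + polar Q e v • f + (projW h v : V) := by
  rw [projW_coe]; abel

theorem polar_left_decomp {e f : V} (h : Hyp Q e f) (a b : F) (w : W Q e f) :
    polar Q e (a • e + b • f + (w : V)) = b := by
  rw [polar_add_right, polar_add_right, polar_smul_right, polar_smul_right, h.polar_left, h.pair,
    W_left]
  simp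

theorem polar_right_decomp {e f : V} (h : Hyp Q e f) (a b : F) (w : W Q e f) :
    polar Q f (a • e + b • f + (w : V)) = a := by
  rw [polar_add_right, polar_add_right, polar_smul_right, polar_smul_right, h.polar_right,
    h.pair', W_right]
  simp

theorem projW_decomp {e f : V} (h : Hyp Q e f) (a b : F) (w : W Q e f) :
    projW h (a • e + b • f + (w : V)) = w := by
  apply Subtype.ext
  rw [projW_coe, polar_left_decomp h, polar_right_decomp h]
  abel

theorem form_decomp {e f : V} (h : Hyp Q e f) (a b : F) (w : W Q e f) :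
    Q (a • e + b • f + (w : V)) = a * b + Q w := by
  rw [Q_add, Q_add, QuadraticMap.map_smul, QuadraticMap.map_smul, h.left, h.right,
    polar_smul_left, polar_smul_right, h.pair, polar_add_left, polar_smul_left, polar_smul_left,
    W_left, W_right]
  simp

theorem projW_add {e f : V} (h : Hyp Q e f) (v v' : V) :
    projW h (v + v') = projW h v + projW h v' := by
  apply Subtype.ext
  rw [Submodule.coe_add, projW_coe, projW_coe, projW_coe, polar_add_right, polar_add_right]
  module

theorem projW_smul {e f : V} (h : Hyp Q e f) (a : F) (v : V) :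
    projW h (a • v) = a • projW h v := by
  apply Subtype.ext
  rw [Submodule.coe_smul, projW_coe, projW_coe, polar_smul_right, polar_smul_right]
  module

/-- The semilinear extension of `φ : W → W`. -/
def ext {e f : V} (h : Hyp Q e f) (φ : W Q e f ≃+ W Q e f) (σ : F ≃+* F) (c : F) (hc : c ≠ 0) :
    V ≃+ V where
  toFun v := (c * σ (polar Q f v)) • e + σ (polar Q e v) • f + (φ (projW h v) : V)
  invFun v := σ.symm (c⁻¹ * polar Q f v) • e + σ.symm (polar Q e v) • f +
    (φ.symm (projW h v) : V)
  left_inv v := by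
    simp only [polar_left_decomp h, polar_right_decomp h, projW_decomp h]
    rw [← mul_assoc, inv_mul_cancel₀ hc, one_mul, RingEquiv.symm_apply_apply,
      RingEquiv.symm_apply_apply, AddEquiv.symm_apply_apply]
    exact (decomp h v).symm
  right_inv v := by
    simp only [polar_left_decomp h, polar_right_decomp h, projW_decomp h]
    rw [RingEquiv.apply_symm_apply, RingEquiv.apply_symm_apply, ← mul_assoc, mul_inv_cancel₀ hc,
      one_mul, AddEquiv.apply_symm_apply]
    exact (decomp h v).symm
  map_add' v v' := by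
    rw [polar_add_right, polar_add_right, projW_add, map_add, map_add, map_add,
      Submodule.coe_add]
    module

theorem ext_apply {e f : V} (h : Hyp Q e f) (φ : W Q e f ≃+ W Q e f) (σ : F ≃+* F) (c : F)
    (hc : c ≠ 0) (v : V) : ext h φ σ c hc v =
      (c * σ (polar Q f v)) • e + σ (polar Q e v) • f + (φ (projW h v) : V) := rfl

theorem ext_isSemi {e f : V} (h : Hyp Q e f) (φ : W Q e f ≃+ W Q e f) (σ : F ≃+* F) (c : F)
    (hc : c ≠ 0) (hs : ∀ (a : F) (w : W Q e f), φ (a • w) = σ a • φ w)
    (hQ : ∀ w : W Q e f, Q (φ w) = c * σ (Q w)) : IsSemi Q (ext h φ σ c hc) σ c where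
  ne := hc
  smul a v := by
    rw [ext_apply, ext_apply, projW_smul, hs, polar_smul_right, polar_smul_right,
      Submodule.coe_smul]
    simp only [smul_eq_mul, map_mul]
    module
  form v := by
    have e2 : Q v = polar Q f v * polar Q e v + Q (projW h v : V) := by
      conv_lhs => rw [decomp h v]
      exact form_decomp h _ _ _
    rw [ext_apply, form_decomp h, hQ, e2, map_add, map_mul]
    ring

theorem ext_left {e f : V} (h : Hyp Q e f) (φ : W Q e f ≃+ W Q e f) (σ : F ≃+* F) (c : F)
    (hc : c ≠ 0) : ext h φ σ c hc e = c • e := by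
  have h1 : projW h e = 0 := by
    apply Subtype.ext
    rw [projW_coe, h.polar_left, h.pair']
    simp
  rw [ext_apply, h1, h.polar_left, h.pair']
  simp

theorem ext_right {e f : V} (h : Hyp Q e f) (φ : W Q e f ≃+ W Q e f) (σ : F ≃+* F) (c : F)
    (hc : c ≠ 0) : ext h φ σ c hc f = f := by
  have h1 : projW h f = 0 := by
    apply Subtype.ext
    rw [projW_coe, h.polar_right, h.pair]
    simp
  rw [ext_apply, h1, h.polar_right, h.pair]
  simp

theorem ext_coe {e f : V} (h : Hyp Q e f) (φ : W Q e f ≃+ W Q e f) (σ : F ≃+* F) (c : F)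
    (hc : c ≠ 0) (w : W Q e f) : ext h φ σ c hc w = φ w := by
  have h1 : projW h w = w := by
    apply Subtype.ext
    rw [projW_coe, W_left, W_right]
    simp
  rw [ext_apply, h1, W_left, W_right]
  simp

/-- The quadratic form on the complement. -/
def QW (Q : QuadraticForm F V) (e f : V) : QuadraticForm F (W Q e f) := Q.comp (W Q e f).subtype

theorem QW_apply {e f : V} (w : W Q e f) : QW Q e f w = Q w := rfl

theorem polar_QW {e f : V} (w w' : W Q e f) : polar (QW Q e f) w w' = polar Q (w : V) (w' : V) :=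
  rfl

theorem nondeg_QW (hQ : Nondeg Q) {e f : V} (h : Hyp Q e f) : Nondeg (QW Q e f) := by
  intro x hx
  apply Subtype.ext
  refine hQ _ fun y => ?_
  have h1 := hx (projW h y)
  rw [polar_QW] at h1
  rw [decomp h y, polar_add_right, polar_add_right, polar_smul_right, polar_smul_right,
    polar_comm Q _ e, polar_comm Q _ f, W_left, W_right, h1]
  simp

/-- `E Q` has a totally singular plane orthogonal to `e, f`. -/
def HasPlaneW (Q : QuadraticForm F V) (e f : V) : Prop := Semilinear.HasPlane (QW Q e f)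

theorem map_conjE_RS {M : V ≃+ V} {σ : F ≃+* F} {c : F} (hM : IsSemi Q M σ c) {u : V}
    (hu : Q u = 0) (hu' : Q (M u) = 0) :
    (RS Q u hu).map (conjE hM).toMonoidHom = RS Q (M u) hu' := by
  have hc := hM.ne
  ext g
  rw [Subgroup.mem_map]
  constructor
  · rintro ⟨_, ⟨w, hw, rfl⟩, rfl⟩
    have hw' : polar Q (M u) (c⁻¹ • M w) = 0 := by
      rw [polar_smul_right, hM.polar, hw]; simp
    exact ⟨_, hw', conjE_sg hM hu hw hu' hw'⟩
  · rintro ⟨w, hw, rfl⟩
    obtain ⟨w0, hw0⟩ := M.surjective (c • w)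
    have h1 : polar Q u w0 = 0 := by
      have h2 := hM.polar u w0
      rw [hw0, polar_smul_right, hw, smul_zero] at h2
      have h3 := (mul_eq_zero.1 h2.symm).resolve_left hc
      simpa using h3
    have hw' : polar Q (M u) (c⁻¹ • M w0) = 0 := by
      rw [polar_smul_right, hM.polar, h1]; simp
    refine ⟨_, sg_mem_RS hu h1, ?_⟩
    refine (conjE_sg hM hu h1 hu' hw').trans (sg_congr _ _ _ _ rfl ?_)
    rw [hw0, smul_smul, inv_mul_cancel₀ hc, one_smul]

theorem carries_descend {M : V ≃+ V} {σ : F ≃+* F} {c : F} (hM : IsSemi Q M σ c) {β : MulAut P}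
    (hβ : ∀ g, β (π g) = π (conjE hM g)) {u : V} (hu : Q u = 0) (hu0 : u ≠ 0) :
    Carries π β u (M u) := by
  have hu' : Q (M u) = 0 := by rw [hM.form, hu, map_zero, mul_zero]
  refine ⟨hu, hu', by simpa using hu0, ?_⟩
  rw [← map_conjE_RS hM hu hu', Subgroup.map_map, Subgroup.map_map]
  congr 1
  ext g
  exact hβ g

/-- An automorphism fixing two opposite Siegel subgroups is induced by a semisimilarity. -/
theorem exists_of_fixed (hG : Good Q) {e f : V} (h : Hyp Q e f) (hT : HasPlaneW Q e f)
    (hπ : Function.Surjective π) (hker : π.ker = Subgroup.center ↥(E Q)) (α : MulAut P)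
    (he : Carries π α e e) (hf : Carries π α f f) :
    ∃ (M : V ≃+ V) (σ : F ≃+* F) (c : F) (hM : IsSemi Q M σ c),
      ∀ g, α (π g) = π (conjE hM g) := by
  have hk : KerScalar π := kerScalar_of_ker hG hker
  obtain ⟨φ, hφ⟩ := exists_addEquiv hG hk h α he
  have hne : f ≠ 0 := h.right_ne
  have key : ∀ w : W Q e f, polar Q f (f + (w : V) - Q w • e) = - Q w := by
    intro w
    rw [polar_sub_right, polar_add_right, polar_smul_right, h.polar_right, h.pair', W_right]
    simp
  have hsing : ∀ w : W Q e f, QW Q e f (φ w) = 0 ↔ QW Q e f w = 0 := by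
    intro w
    rw [QW_apply, QW_apply]
    have h1 : Carries π α ((sg Q e w h.left (W_left w) : V ≃ₗ[F] V) f)
        ((sg Q e (φ w) h.left (W_left (φ w)) : V ≃ₗ[F] V) f) := hf.map (hφ w)
    have h2 := hf.perp hG hk h1 hne (by simpa using hne)
    rw [sg_apply_partner h _ (W_right _), sg_apply_partner h _ (W_right _), key, key] at h2
    simpa using h2.symm
  obtain ⟨σ, c, hc, hs, -, hform⟩ :=
    Semilinear.exists_semilinear φ (nondeg_QW hG.nondeg h) hT hsing
  set M := ext h φ σ c hc with hMdef
  have hM : IsSemi Q M σ c := ext_isSemi h φ σ c hc hs hform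
  have hMe : M e = c • e := ext_left h φ σ c hc
  have hMf : M f = f := ext_right h φ σ c hc
  have hMw : ∀ w : W Q e f, M w = φ w := ext_coe h φ σ c hc
  refine ⟨M, σ, c, hM, ?_⟩
  obtain ⟨βM, hβM⟩ := exists_descend π hπ hker (conjE hM)
  set β : MulAut P := βM⁻¹ * α with hβdef
  have hβiff : ∀ g, α (π g) = π (conjE hM g) ↔ β (π g) = π g := by
    intro g
    rw [← hβM]
    constructor
    · intro h1
      change βM⁻¹ (α (π g)) = _
      rw [h1]
      exact MulEquiv.symm_apply_apply βM _
    · intro h1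
      have h2 : βM (βM⁻¹ (α (π g))) = βM (π g) := congrArg βM h1
      rw [← h2]
      exact (MulEquiv.apply_symm_apply βM _).symm
  have hfix : ∀ w : W Q e f, β (π (sg Q e w h.left (W_left w))) =
      π (sg Q e w h.left (W_left w)) := by
    intro w
    rw [← hβiff, hφ]
    have hu' : Q (M e) = 0 := by rw [hM.form, h.left, map_zero, mul_zero]
    have hw' : polar Q (M e) (c⁻¹ • M (w : V)) = 0 := by
      rw [polar_smul_right, hM.polar, W_left]; simp
    rw [conjE_sg hM h.left (W_left w) hu' hw']
    have hce : Q (c • e) = 0 := by rw [← hMe]; exact hu'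
    have h3 : polar Q (c • e) (c⁻¹ • (φ w : V)) = 0 := by
      rw [← hMe, ← hMw]; exact hw'
    have h4 : polar Q e (c • (c⁻¹ • (φ w : V))) = 0 := by
      rw [polar_smul_right, polar_smul_right, W_left]; simp
    rw [sg_congr hu' hw' hce h3 hMe (by rw [hMw]), sg_smul c h.left hce h3 h4]
    congr 1
    exact sg_congr _ _ _ _ rfl (by rw [smul_smul, mul_inv_cancel₀ hc, one_smul])
  have hfβ : Carries π β f f := by
    have h1 := carries_descend hM hβM h.right h.right_ne
    rw [hMf] at h1
    exact hf.comp (h1.inv h.right_ne)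
  have heβ : Carries π β e e := by
    have h1 := carries_descend hM hβM h.left h.left_ne
    rw [hMe] at h1
    have h2 := h1.smul_right (inv_ne_zero hc)
    rw [smul_smul, inv_mul_cancel₀ hc, one_smul] at h2
    exact he.comp (h2.inv h.left_ne)
  obtain ⟨ψ, hψ⟩ := exists_addEquiv hG hk h.symm β hfβ
  -- nonsingular vectors are fixed
  have hψ1 : ∀ w : W Q f e, Q w ≠ 0 → ψ w = w := by
    intro w hw
    have hc1 : Carries π β ((sg Q f w h.right (W_left w) : V ≃ₗ[F] V) e)
        ((sg Q f (ψ w) h.right (W_left (ψ w)) : V ≃ₗ[F] V) e) := heβ.map (hψ w)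
    rw [sg_apply_partner h.symm _ (W_right _), sg_apply_partner h.symm _ (W_right _)] at hc1
    have hw'mem : (-(Q w)⁻¹) • (w : V) ∈ W Q e f := by
      rw [mem_W, polar_smul_right, polar_smul_right, W_left, W_right]; simp
    have hc2 := hfβ.map (hfix ⟨_, hw'mem⟩)
    rw [sg_apply_partner h _ (W_right _)] at hc2
    have hQw' : Q ((-(Q w)⁻¹) • (w : V)) = (Q w)⁻¹ := by
      rw [QuadraticMap.map_smul]
      simp only [smul_eq_mul]
      field_simp
    simp only [hQw'] at hc2
    have hc3 := hc2.smul_left (neg_ne_zero.2 hw)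
    have e1 : (-Q (w : V)) • (f + (-(Q (w : V))⁻¹) • (w : V) - (Q (w : V))⁻¹ • e) =
        e + (w : V) - Q w • f := by
      match_scalars <;> field_simp
    rw [e1] at hc3
    obtain ⟨a, -, ha⟩ := hc3.unique hG hk hc1
    have h1 := congrArg (polar Q f) ha
    rw [polar_sub_right, polar_add_right, polar_smul_right, polar_smul_right, polar_sub_right,
      polar_add_right, polar_smul_right, polar_smul_right, h.polar_right, h.pair', W_left,
      W_left] at h1
    have h2 := congrArg (polar Q e) ha
    rw [polar_sub_right, polar_add_right, polar_smul_right, polar_smul_right, polar_sub_right,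
      polar_add_right, polar_smul_right, polar_smul_right, h.polar_left, h.pair, W_right,
      W_right] at h2
    simp only [smul_eq_mul, mul_zero, mul_one, add_zero, sub_zero, zero_sub] at h1 h2
    have ha' : a = - Q w := by
      have : a * (Q (w : V))⁻¹ = -1 := by linear_combination h1
      field_simp at this
      linear_combination this
    rw [ha'] at h2
    have h3 : Q (ψ w : V) = Q w := by linear_combination -h2
    apply Subtype.ext
    rw [ha', e1, h3] at ha
    have h4 : (ψ w : V) = (e + (ψ w : V) - Q (w : V) • f) - e + Q (w : V) • f := by abel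
    rw [h4, ha]
    abel
  have hψ2 : ∀ w : W Q f e, ψ w = w := by
    intro w
    by_cases hw : Q w = 0
    · by_cases hw0 : (w : V) = 0
      · have : w = 0 := Subtype.ext hw0
        rw [this, map_zero]
      · obtain ⟨w', hww', hew', hfw'⟩ := exists_hyp_perp hG.nondeg h hw hw0 (W_right w) (W_left w)
        obtain ⟨a, b, ⟨ha1, ha2, ha3, ha4⟩, ⟨hb1, hb2, hb3, hb4⟩, hab⟩ :=
          exists_perp4 hG.nondeg hG.dim h hww' (W_right w) hew' (W_left w) hfw'
        obtain ⟨z, hz, hez, hfz, hwz⟩ : ∃ z, Q z ≠ 0 ∧ polar Q e z = 0 ∧ polar Q f z = 0 ∧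
            polar Q (w : V) z = 0 := by
          rcases exists_nonsing hab with h | h | h
          · exact ⟨a, h, ha1, ha2, ha3⟩
          · exact ⟨b, h, hb1, hb2, hb3⟩
          · exact ⟨a + b, h, by rw [polar_add_right, ha1, hb1, add_zero],
              by rw [polar_add_right, ha2, hb2, add_zero],
              by rw [polar_add_right, ha3, hb3, add_zero]⟩
        set z' : W Q f e := ⟨z, mem_W.2 ⟨hfz, hez⟩⟩ with hz'
        have h1 : ψ (w + z') = w + z' := by
          apply hψ1
          change Q ((w : V) + z) ≠ 0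
          rw [Q_add, hw, hwz, zero_add, add_zero]
          exact hz
        have h2 : ψ z' = z' := hψ1 _ hz
        rw [map_add, h2] at h1
        exact add_right_cancel h1
    · exact hψ1 w hw
  -- conclusion
  intro g
  rw [hβiff]
  have hK : (⊤ : Subgroup ↥(E Q)) ≤ (β.toMonoidHom.comp π).eqLocus π := by
    rw [← sup_RS_eq_top hG h, sup_le_iff]
    constructor
    · rintro _ ⟨z, hz, rfl⟩
      change β (π _) = π _
      rw [sg_proj h hz (polar_proj_left h z)]
      exact hfix ⟨_, proj_mem_W h z⟩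
    · rintro _ ⟨z, hz, rfl⟩
      change β (π _) = π _
      rw [sg_proj h.symm hz (polar_proj_left h.symm z)]
      have := hψ ⟨_, proj_mem_W h.symm z⟩
      rw [hψ2] at this
      exact this
  exact hK (Subgroup.mem_top g)

/-- An automorphism carrying Siegel subgroups to Siegel subgroups is induced by a
semisimilarity. -/
theorem exists_semisimilarity (hG : Good Q) {e f : V} (h : Hyp Q e f) (hT : HasPlaneW Q e f)
    (hπ : Function.Surjective π) (hker : π.ker = Subgroup.center ↥(E Q)) (α : MulAut P)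
    (hα : ∀ (u : V) (hu : Q u = 0), u ≠ 0 → ∃ (u' : V) (hu' : Q u' = 0), u' ≠ 0 ∧
      ((RS Q u hu).map π).map α.toMonoidHom = (RS Q u' hu').map π) :
    ∃ (M : V ≃+ V) (σ : F ≃+* F) (c : F) (hM : IsSemi Q M σ c),
      ∀ g, α (π g) = π (conjE hM g) := by
  have hk : KerScalar π := kerScalar_of_ker hG hker
  obtain ⟨e', he', he0', hee'⟩ := hα e h.left h.left_ne
  obtain ⟨f'', hf'', hf0'', hff''⟩ := hα f h.right h.right_ne
  have hCe : Carries π α e e' := ⟨h.left, he', he0', hee'⟩
  have hCf : Carries π α f f'' := ⟨h.right, hf'', hf0'', hff''⟩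
  have hne : polar Q e' f'' ≠ 0 := by
    intro h0
    have := (hCe.perp hG hk hCf h.left_ne h.right_ne).2 h0
    rw [h.pair] at this
    exact one_ne_zero this
  have hCf' := hCf.smul_right (inv_ne_zero hne)
  set f' := (polar Q e' f'')⁻¹ • f'' with hf'def
  have hyp' : Hyp Q e' f' := by
    refine ⟨he', by rw [hf'def, QuadraticMap.map_smul, hf'', smul_zero], ?_⟩
    rw [hf'def, polar_smul_right, smul_eq_mul, inv_mul_cancel₀ hne]
  obtain ⟨g0, hg0, e1, e2⟩ := hG.trans_hyp h hyp'
  set G0 : ↥(E Q) := ⟨g0, hg0⟩ with hG0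
  -- compose with the inner automorphism
  set γ : MulAut P := MulAut.conj (π G0) with hγ
  have hCγ : ∀ u, Q u = 0 → u ≠ 0 → Carries π γ u (g0 u) := by
    intro u hu hu0
    have hu' : Q (g0 u) = 0 := by rw [mem_O.1 (E_le_O hg0)]; exact hu
    refine ⟨hu, hu', by simpa using hu0, ?_⟩
    rw [← map_conj_RS G0 hu hu', Subgroup.map_map, Subgroup.map_map]
    congr 1
    ext y
    simp [hγ]
  have hCe1 : Carries π (γ⁻¹ * α) e e := by
    have h1 := hCγ e h.left h.left_ne
    rw [e1] at h1
    exact hCe.comp (h1.inv h.left_ne)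
  have hCf1 : Carries π (γ⁻¹ * α) f f := by
    have h1 := hCγ f h.right h.right_ne
    rw [e2] at h1
    exact hCf'.comp (h1.inv h.right_ne)
  obtain ⟨M, σ, c, hM, H⟩ := exists_of_fixed hG h hT hπ hker _ hCe1 hCf1
  have hM' : IsSemi Q (M.trans g0.toAddEquiv) σ c := by
    refine ⟨hM.ne, fun a v => ?_, fun v => ?_⟩
    · change g0 (M (a • v)) = σ a • g0 (M v)
      rw [hM.smul, map_smul]
    · change Q (g0 (M v)) = _
      rw [mem_O.1 (E_le_O hg0)]
      exact hM.form v
  refine ⟨_, σ, c, hM', fun g => ?_⟩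
  have h1 := H g
  have h2 : α (π g) = γ (π (conjE hM g)) := by
    rw [← h1]
    exact (MulEquiv.apply_symm_apply γ _).symm
  rw [h2]
  have h3 : conjE hM' g = G0 * conjE hM g * G0⁻¹ := by
    refine ext_E fun v => ?_
    rfl
  rw [h3, map_mul, map_mul, map_inv]
  rfl

end Cfsg.Agent.AutOrth.Extend
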