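import Mathlib
import Cfsg.Agent.AutOrth.Extend
import Cfsg.Agent.LieClassical.QuadForms

/-!
The complement of some hyperbolic pair of the standard quadratic forms contains a totally singular
plane.
-/

set_option autoImplicit false

namespace Cfsg.Agent.AutOrth.Planes

open QuadraticMap Cfsg.Agent.LieClassical.OrthCore Cfsg.Agent.LieClassical.OrthTrans
  Cfsg.Agent.AutOrth.Extend Cfsg.Agent.LieClassical.QuadForms

variable {F V : Type*} [Field F] [AddCommGroup V] [Module F V] {Q : QuadraticForm F V}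

theorem hasPlaneW_of {e f u w : V} (h : Semilinear.Adj Q u w) (he : polar Q e u = 0)
    (hf : polar Q f u = 0) (he' : polar Q e w = 0) (hf' : polar Q f w = 0) :
    HasPlaneW Q e f := by
  refine ⟨⟨u, mem_W.2 ⟨he, hf⟩⟩, ⟨w, mem_W.2 ⟨he', hf'⟩⟩, h.1, h.2.1, h.2.2.1, ?_, ?_⟩
  · intro h0
    exact h.2.2.2.1 (congrArg Subtype.val h0)
  · intro a ha
    exact h.2.2.2.2 a (congrArg Subtype.val ha)

/-- If the hyperbolic form of rank at least `6` embeds, there is a suitable hyperbolic pair. -/
theorem exists_of_embedding {m : ℕ} (hm : 3 ≤ m) (ι : (Fin m ⊕ Fin m → F) →ₗ[F] V)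
    (hι : ∀ x, Q (ι x) = plusForm m F x) : ∃ e f, Hyp Q e f ∧ HasPlaneW Q e f := by
  have hpol : ∀ x y, polar Q (ι x) (ι y) = polar (plusForm m F) x y := by
    intro x y
    simp only [polar, ← map_add, hι]
  have hinj : ∀ x, ι x = 0 → x = 0 := by
    intro x hx
    refine polar_plusForm_nondeg m x fun y => ?_
    rw [← hpol, hx, polar_zero_left]
  let i0 : Fin m := ⟨0, by omega⟩
  let i1 : Fin m := ⟨1, by omega⟩
  let i2 : Fin m := ⟨2, by omega⟩
  have h01 : i0 ≠ i1 := by simp [i0, i1]
  have h02 : i0 ≠ i2 := by simp [i0, i2]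
  have h12 : i1 ≠ i2 := by simp [i1, i2]
  have hl : ∀ i : Fin m, plusForm m F (Pi.single (.inl i) 1) = 0 := by
    intro i
    rw [plusForm_apply]
    exact Finset.sum_eq_zero fun j _ => by simp
  have hr : ∀ i : Fin m, plusForm m F (Pi.single (.inr i) 1) = 0 := by
    intro i
    rw [plusForm_apply]
    exact Finset.sum_eq_zero fun j _ => by simp
  refine ⟨ι (Pi.single (.inl i0) 1), ι (Pi.single (.inr i0) 1),
    ⟨by rw [hι, hl], by rw [hι, hr], by rw [hpol, polar_plusForm_single_inr]; simp⟩,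
    hasPlaneW_of (u := ι (Pi.single (.inl i1) 1)) (w := ι (Pi.single (.inl i2) 1))
      ⟨by rw [hι, hl], by rw [hι, hl], ?_, ?_, ?_⟩ ?_ ?_ ?_ ?_⟩
  · rw [hpol, polar_plusForm_single_inl]; simp
  · intro h0
    have := congrFun (hinj _ h0) (.inl i1)
    simp at this
  · intro a ha
    rw [← map_smul, ← sub_eq_zero, ← map_sub] at ha
    have := congrFun (hinj _ ha) (.inl i2)
    simp [h12.symm] at this
  · rw [hpol, polar_plusForm_single_inl]; simp
  · rw [hpol, polar_plusForm_single_inl]; simp [h01.symm]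
  · rw [hpol, polar_plusForm_single_inl]; simp
  · rw [hpol, polar_plusForm_single_inl]; simp [h02.symm]

theorem exists_plus {m : ℕ} (hm : 3 ≤ m) :
    ∃ e f, Hyp (plusForm m F) e f ∧ HasPlaneW (plusForm m F) e f :=
  exists_of_embedding hm LinearMap.id fun _ => rfl

/-- The embedding of the hyperbolic part. -/
def oddEmb (m : ℕ) : (Fin m ⊕ Fin m → F) →ₗ[F] (Unit ⊕ (Fin m ⊕ Fin m) → F) where
  toFun v := Sum.elim 0 v
  map_add' v w := by
    funext x
    rcases x with i | i <;> simp
  map_smul' a v := by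
    funext x
    rcases x with i | i <;> simp

theorem exists_odd {m : ℕ} (hm : 3 ≤ m) :
    ∃ e f, Hyp (oddForm m F) e f ∧ HasPlaneW (oddForm m F) e f :=
  exists_of_embedding hm (oddEmb m) fun v => by
    rw [oddForm_apply]
    have h1 : (fun i => oddEmb m v (.inr i)) = v := rfl
    have h2 : oddEmb m v (.inl ()) = 0 := rfl
    rw [h1, h2, zero_mul, zero_add]

/-- The embedding of the hyperbolic part. -/
def minusEmb (m : ℕ) : (Fin m ⊕ Fin m → F) →ₗ[F] ((Fin m ⊕ Fin m) ⊕ Fin 2 → F) where
  toFun v := Sum.elim v 0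
  map_add' v w := by
    funext x
    rcases x with i | i <;> simp
  map_smul' a v := by
    funext x
    rcases x with i | i <;> simp

theorem exists_minus {m : ℕ} (hm : 3 ≤ m) (a b : F) :
    ∃ e f, Hyp (minusForm m F a b) e f ∧ HasPlaneW (minusForm m F a b) e f :=
  exists_of_embedding hm (minusEmb m) fun v => by
    rw [minusForm_apply]
    have h1 : (fun i => minusEmb m v (.inl i)) = v := rfl
    have h2 : (fun i => minusEmb m v (.inr i)) = (0 : Fin 2 → F) := rfl
    rw [h1, h2, map_zero, add_zero]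

end Cfsg.Agent.AutOrth.Planes
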