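import Mathlib
import Cfsg.Agent.AutOrth.Planes
import Cfsg.Agent.ClassicalGeometry.OrthAut4
import Cfsg.Agent.ClassicalGeometry.TrialityFinal
import Cfsg.Agent.LieClassical.OrthForms

/-!
Every automorphism of `POmega F Q` is induced by a semisimilarity (finite fields, dimension at least
7, no triality), and conversely.
-/

set_option autoImplicit false

namespace Cfsg.Agent.AutOrth.Main

open QuadraticMap Cfsg.Agent.LieClassical.OrthCore Cfsg.Agent.LieClassical.OrthTrans
  Cfsg.Agent.LieClassical.OrthSimple Cfsg.Agent.AutOrth.SemiSim Cfsg.Agent.AutOrth.Gen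
  Cfsg.Agent.AutOrth.Extend Cfsg.Agent.ClassicalGeometry.OrthAut1 Cfsg.Agent.LieClassical.QuadForms
  Cfsg.Agent.LieClassical.OrthFinite Cfsg.Agent.LieClassical

section Abstract

variable {F V : Type*} [Field F] [AddCommGroup V] [Module F V] {Q : QuadraticForm F V}

/-- `α` permutes the stabilisers of singular points. -/
def Pt (hG : Good Q) (α : MulAut (P Q)) : Prop :=
  ∀ x, Q x = 0 → x ≠ 0 → ∃ y, Q y = 0 ∧ y ≠ 0 ∧
    (stab hG (Submodule.span F {x})).map α.toMonoidHom = stab hG (Submodule.span F {y})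

/-- Without totally singular 4-spaces in dimension 8 every automorphism permutes the point
stabilisers. -/
theorem pt_of_no_four [Finite F] [FiniteDimensional F V] (hG : Good Q)
    (h7 : 7 ≤ Module.finrank F V)
    (h8 : Module.finrank F V = 8 → ∀ W : Submodule F V, TS Q W → Module.finrank F W ≠ 4)
    (α : MulAut (P Q)) : Pt hG α := by
  intro x hx hx0
  rcases Cfsg.Agent.ClassicalGeometry.OrthAut3.dichotomy hG h7 α hx hx0 with h | h
  · exact h
  · obtain ⟨h1, W, h2, h3, -⟩ := h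
    exact absurd h3 (h8 h1 W h2)

/-- The image of a point stabiliser under a semisimilarity. -/
theorem pt_of_semi (hG : Good Q) {M : V ≃+ V} {σ : F ≃+* F} {c : F} (hM : IsSemi Q M σ c)
    {α : MulAut (P Q)} (hα : ∀ g : ↥(E Q), α (g : P Q) = ((conjE hM g : ↥(E Q)) : P Q)) :
    Pt hG α := by
  intro x hx hx0
  refine ⟨M x, by rw [hM.form, hx, map_zero, mul_zero], by simpa using hx0, ?_⟩
  have key : ∀ g : ↥(E Q), ((conjE hM g : ↥(E Q)) : P Q) ∈ stab hG (Submodule.span F {M x}) ↔
      (g : P Q) ∈ stab hG (Submodule.span F {x}) := by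
    intro g
    rw [mem_stab, mem_stab, pact_mk, pact_mk, mapHom_span, mapHom_span]
    have h1 : ((conjE hM g : ↥(E Q)) : V ≃ₗ[F] V) (M x) = M ((g : V ≃ₗ[F] V) x) := by
      rw [conjE_apply]
    rw [h1]
    constructor
    · intro h
      have h2 : M ((g : V ≃ₗ[F] V) x) ∈ Submodule.span F {M x} := by
        rw [← h]; exact Submodule.mem_span_singleton_self _
      obtain ⟨a, ha⟩ := Submodule.mem_span_singleton.1 h2
      have ha' : (g : V ≃ₗ[F] V) x = σ.symm a • x := by
        apply M.injective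
        rw [← ha, hM.smul, RingEquiv.apply_symm_apply]
      have ha0 : σ.symm a ≠ 0 := by
        intro h0
        rw [h0, zero_smul] at ha'
        exact hx0 ((LinearEquiv.map_eq_zero_iff _).1 ha')
      rw [ha']
      exact Submodule.span_singleton_smul_eq (IsUnit.mk0 _ ha0) x
    · intro h
      have h2 : (g : V ≃ₗ[F] V) x ∈ Submodule.span F {x} := by
        rw [← h]; exact Submodule.mem_span_singleton_self _
      obtain ⟨a, ha⟩ := Submodule.mem_span_singleton.1 h2
      have ha0 : a ≠ 0 := by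
        rintro rfl
        rw [zero_smul] at ha
        exact hx0 ((LinearEquiv.map_eq_zero_iff _).1 ha.symm)
      rw [← ha, hM.smul]
      exact Submodule.span_singleton_smul_eq (IsUnit.mk0 _ (by simpa using ha0)) _
  ext p
  rw [Subgroup.mem_map]
  constructor
  · rintro ⟨q, hq, rfl⟩
    obtain ⟨g, rfl⟩ := QuotientGroup.mk_surjective q
    change α (g : P Q) ∈ _
    rw [hα, key]
    exact hq
  · intro hp
    obtain ⟨q, rfl⟩ := α.surjective p
    obtain ⟨g, rfl⟩ := QuotientGroup.mk_surjective q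
    refine ⟨(g : P Q), ?_, rfl⟩
    change α (g : P Q) ∈ _ at hp
    rw [hα, key] at hp
    exact hp

end Abstract

section Forms

variable {F : Type*} [Field F]

/-- Totally singular subspaces of the minus-type form have dimension at most `m`. -/
theorem finrank_le_of_TS_minus (m : ℕ) (a b : F)
    (hab : ∀ z₁ z₂ : F, z₁ ^ 2 + a * z₁ * z₂ + b * z₂ ^ 2 = 0 → z₁ = 0 ∧ z₂ = 0)
    {W : Submodule F ((Fin m ⊕ Fin m) ⊕ Fin 2 → F)} (hW : TS (minusForm m F a b) W) :
    Module.finrank F W ≤ m := by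
  let r : ((Fin m ⊕ Fin m) ⊕ Fin 2 → F) →ₗ[F] (Fin m → F) :=
    LinearMap.funLeft F F fun i => Sum.inl (Sum.inr i)
  let l : ((Fin m ⊕ Fin m) ⊕ Fin 2 → F) →ₗ[F] (Fin m → F) :=
    LinearMap.funLeft F F fun i => Sum.inl (Sum.inl i)
  set K : Submodule F W := LinearMap.ker (r.domRestrict W) with hK
  have hr : ∀ v : W, v ∈ K → ∀ i, (v : (Fin m ⊕ Fin m) ⊕ Fin 2 → F) (.inl (.inr i)) = 0 := by
    intro v hv i
    exact congrFun (LinearMap.mem_ker.1 hv) i
  have hb : ∀ v : W, v ∈ K → ∀ i, (v : (Fin m ⊕ Fin m) ⊕ Fin 2 → F) (.inr i) = 0 := by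
    intro v hv
    have h1 := hW v v.2
    rw [minusForm_apply, plusForm_apply, Finset.sum_eq_zero, zero_add, binForm_apply] at h1
    · obtain ⟨h2, h3⟩ := hab _ _ h1
      intro i
      fin_cases i
      · exact h2
      · exact h3
    · intro i _
      rw [hr v hv i, mul_zero]
  let lK : K →ₗ[F] (Fin m → F) := (l.domRestrict W).domRestrict K
  have hl : Function.Injective lK := by
    rw [injective_iff_map_eq_zero]
    rintro ⟨v, hv⟩ h
    apply Subtype.ext
    apply Subtype.ext
    funext x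
    rcases x with (i | i) | i
    · exact congrFun h i
    · exact hr v hv i
    · exact hb v hv i
  have h1 : Module.finrank F (LinearMap.range (r.domRestrict W)) + Module.finrank F K =
      Module.finrank F W := LinearMap.finrank_range_add_finrank_ker _
  have h2 : Module.finrank F (LinearMap.range lK) = Module.finrank F K :=
    LinearMap.finrank_range_of_inj hl
  have h3 := Subspace.finrank_add_finrank_dualAnnihilator_eq (LinearMap.range lK)
  have h4 : (LinearMap.range (r.domRestrict W)).map (dotProductEquiv F (Fin m)).toLinearMap ≤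
      (LinearMap.range lK).dualAnnihilator := by
    rintro _ ⟨_, ⟨w, rfl⟩, rfl⟩
    rw [Submodule.mem_dualAnnihilator]
    rintro _ ⟨v, rfl⟩
    have h5 := hW.polar v.1.2 w.2
    rw [polar_minusForm, polar_plusForm] at h5
    have h6 : (fun i => (v.1 : (Fin m ⊕ Fin m) ⊕ Fin 2 → F) (Sum.inr i)) = 0 := by
      funext i
      exact hb v.1 v.2 i
    rw [h6, polar_zero_left, add_zero] at h5
    change (dotProductEquiv F (Fin m)) (r w) (l v.1) = 0
    rw [dotProductEquiv_apply_apply, dotProduct, ← h5]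
    refine Finset.sum_congr rfl fun i _ => ?_
    rw [hr v.1 v.2 i, mul_zero, add_zero, mul_comm]
    rfl
  have h5 := Submodule.finrank_mono h4
  have h7 : Module.finrank F ((LinearMap.range (r.domRestrict W)).map
      (dotProductEquiv F (Fin m)).toLinearMap) =
      Module.finrank F (LinearMap.range (r.domRestrict W)) :=
    LinearEquiv.finrank_map_eq (dotProductEquiv F (Fin m)) _
  have h6 : Module.finrank F (Fin m → F) = m := by simp
  omega

end Forms

/-! ### Transfer to `POmega` -/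

section Transfer

variable {ι : Type} [Fintype ι] [DecidableEq ι] {F : Type*} [Field F]
  {Q : QuadraticForm F (ι → F)}

open scoped Matrix

/-- `Omega F Q` as the group generated by the Siegel transformations. -/
noncomputable def oe (hG : Good Q) : Cfsg.Omega F ⇑Q ≃* ↥(E Q) :=
  (omegaEquiv Q).trans (MulEquiv.subgroupCongr hG.commutator_eq_E)

theorem oe_apply (hG : Good Q) (g : Cfsg.Omega F ⇑Q) (v : ι → F) :
    (oe hG g : (ι → F) ≃ₗ[F] (ι → F)) v =
      (((g : Cfsg.isometryGroup F ⇑Q) : Matrix.GeneralLinearGroup ι F) : Matrix ι ι F) *ᵥ v :=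
  rfl

/-- `POmega F Q` as `E Q` modulo its centre. -/
noncomputable def pe (hG : Good Q) : Cfsg.POmega F ⇑Q ≃* P Q := quotientCenterCongr (oe hG)

theorem pe_mk (hG : Good Q) (g : Cfsg.Omega F ⇑Q) :
    pe hG (QuotientGroup.mk g) = ((oe hG g : ↥(E Q)) : P Q) := rfl

/-- The transferred automorphism. -/
noncomputable def tr (hG : Good Q) (α : MulAut (Cfsg.POmega F ⇑Q)) : MulAut (P Q) :=
  MulAut.congr (pe hG) α

theorem tr_apply (hG : Good Q) (α : MulAut (Cfsg.POmega F ⇑Q)) (g : Cfsg.Omega F ⇑Q) :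
    tr hG α ((oe hG g : ↥(E Q)) : P Q) = pe hG (α (QuotientGroup.mk g)) := by
  change pe hG (α ((pe hG).symm _)) = _
  rw [← pe_mk, MulEquiv.symm_apply_apply]

/-- An automorphism of `POmega F Q` permuting the point stabilisers is induced by a
semisimilarity. -/
theorem exists_of_pt [Finite F] (hG : Good Q) (h7 : 7 ≤ Fintype.card ι)
    (α : MulAut (Cfsg.POmega F ⇑Q)) (hα : Pt hG (tr hG α)) :
    ∃ (σ : F ≃+* F) (μ : F) (T : (ι → F) ≃+ (ι → F)),
      (μ ≠ 0 ∧ (∀ (c : F) (v : ι → F), T (c • v) = σ c • T v) ∧ ∀ v, Q (T v) = μ * σ (Q v)) ∧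
      ∀ g g' : ↥(Cfsg.Omega F ⇑Q),
        (∀ v, (((g' : Cfsg.isometryGroup F ⇑Q) : Matrix.GeneralLinearGroup ι F) :
          Matrix ι ι F) *ᵥ T v =
          T ((((g : Cfsg.isometryGroup F ⇑Q) : Matrix.GeneralLinearGroup ι F) :
            Matrix ι ι F) *ᵥ v)) →
        α (QuotientGroup.mk g) = QuotientGroup.mk g' := by
  obtain ⟨M, σ, c, hM, h⟩ := Cfsg.Agent.ClassicalGeometry.OrthAut4.exists_semi_P hG
    (by rwa [Module.finrank_fintype_fun_eq_card]) (tr hG α) hα
  refine ⟨σ, c, M, ⟨hM.ne, hM.smul, hM.form⟩, fun g g' hgg => ?_⟩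
  apply (pe hG).injective
  rw [← tr_apply, h, pe_mk]
  congr 1
  apply ext_E
  intro v
  obtain ⟨v, rfl⟩ := M.surjective v
  rw [conjE_apply, oe_apply, oe_apply, hgg]

/-- An automorphism induced by a semisimilarity permutes the point stabilisers. -/
theorem pt_of_exists (hG : Good Q) (α : MulAut (Cfsg.POmega F ⇑Q))
    (h : ∃ (σ : F ≃+* F) (μ : F) (T : (ι → F) ≃+ (ι → F)),
      (μ ≠ 0 ∧ (∀ (c : F) (v : ι → F), T (c • v) = σ c • T v) ∧ ∀ v, Q (T v) = μ * σ (Q v)) ∧
      ∀ g g' : ↥(Cfsg.Omega F ⇑Q),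
        (∀ v, (((g' : Cfsg.isometryGroup F ⇑Q) : Matrix.GeneralLinearGroup ι F) :
          Matrix ι ι F) *ᵥ T v =
          T ((((g : Cfsg.isometryGroup F ⇑Q) : Matrix.GeneralLinearGroup ι F) :
            Matrix ι ι F) *ᵥ v)) →
        α (QuotientGroup.mk g) = QuotientGroup.mk g') : Pt hG (tr hG α) := by
  obtain ⟨σ, μ, T, ⟨hμ, hs, hQ⟩, hT⟩ := h
  have hM : IsSemi Q T σ μ := ⟨hμ, hs, hQ⟩
  refine pt_of_semi hG hM fun x => ?_
  obtain ⟨g, rfl⟩ := (oe hG).surjective x
  obtain ⟨g', hg'⟩ := (oe hG).surjective (conjE hM (oe hG g))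
  rw [tr_apply, ← hg', ← pe_mk]
  congr 1
  apply hT
  intro v
  rw [← oe_apply hG, ← oe_apply hG, hg', conjE_apply]

/-- The automorphism `α` of `POmega F Q` is induced by a semisimilarity of `Q`. -/
def Ind (Q : (ι → F) → F) (α : MulAut (Cfsg.POmega F Q)) : Prop :=
  ∃ (σ : F ≃+* F) (μ : F) (T : (ι → F) ≃+ (ι → F)),
    (μ ≠ 0 ∧ (∀ (c : F) (v : ι → F), T (c • v) = σ c • T v) ∧ ∀ v, Q (T v) = μ * σ (Q v)) ∧
    ∀ g g' : ↥(Cfsg.Omega F Q),
      (∀ v, (((g' : Cfsg.isometryGroup F Q) : Matrix.GeneralLinearGroup ι F) :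
        Matrix ι ι F) *ᵥ T v =
        T ((((g : Cfsg.isometryGroup F Q) : Matrix.GeneralLinearGroup ι F) :
          Matrix ι ι F) *ᵥ v)) →
      α (QuotientGroup.mk g) = QuotientGroup.mk g'

theorem ind_iff_pt [Finite F] (hG : Good Q) (h7 : 7 ≤ Fintype.card ι)
    (α : MulAut (Cfsg.POmega F ⇑Q)) : Ind ⇑Q α ↔ Pt hG (tr hG α) :=
  ⟨pt_of_exists hG α, exists_of_pt hG h7 α⟩

theorem ind_of_no_four [Finite F] (hG : Good Q) (h7 : 7 ≤ Fintype.card ι)
    (h8 : Fintype.card ι = 8 → ∀ W : Submodule F (ι → F), TS Q W → Module.finrank F W ≠ 4)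
    (α : MulAut (Cfsg.POmega F ⇑Q)) : Ind ⇑Q α := by
  rw [ind_iff_pt hG h7]
  refine pt_of_no_four hG (by rwa [Module.finrank_fintype_fun_eq_card]) ?_ _
  rwa [Module.finrank_fintype_fun_eq_card]

end Transfer

/-! ### The three families -/

section Families

variable {F : Type*} [Field F]

theorem plusForm_eq (m : ℕ) : OrthForms.plusForm m F = plusForm m F :=
  DFunLike.coe_injective ((OrthForms.coe_plusForm m F).trans (coe_plusForm m).symm)

theorem minusForm_eq (m : ℕ) (a b : F) : OrthForms.minusForm m F a b = minusForm m F a b :=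
  DFunLike.coe_injective ((OrthForms.coe_minusForm m F a b).trans (coe_minusForm m a b).symm)

theorem oddForm_eq (m : ℕ) : OrthForms.oddForm m F = oddForm m F :=
  DFunLike.coe_injective ((OrthForms.coe_oddForm m F).trans (coe_oddForm m).symm)

theorem good_plus [Finite F] {m : ℕ} (hm : 3 ≤ m) : Good (plusForm m F) :=
  good_of_finite (by rw [← plusForm_eq]; exact OrthForms.nondeg_plusForm m F)
    (by rw [Module.finrank_fintype_fun_eq_card]; simp; omega)

theorem good_minus [Finite F] {m : ℕ} (hm : 2 ≤ m) {a b : F}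
    (hab : ∀ z₁ z₂ : F, z₁ ^ 2 + a * z₁ * z₂ + b * z₂ ^ 2 = 0 → z₁ = 0 ∧ z₂ = 0) :
    Good (minusForm m F a b) :=
  good_of_finite (by rw [← minusForm_eq]; exact OrthForms.nondeg_minusForm m F a b hab)
    (by rw [Module.finrank_fintype_fun_eq_card]; simp; omega)

theorem good_odd [Finite F] {m : ℕ} (hm : 2 ≤ m) (h2 : (2 : F) ≠ 0) : Good (oddForm m F) :=
  good_of_finite (by rw [← oddForm_eq]; exact OrthForms.nondeg_oddForm m F h2)
    (by rw [Module.finrank_fintype_fun_eq_card]; simp; omega)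

/-- Every automorphism of `PΩ_{2m+1}(q)` is induced by a semisimilarity. -/
theorem all_odd [Finite F] {m : ℕ} (hm : 3 ≤ m) (h2 : (2 : F) ≠ 0)
    (α : MulAut (Cfsg.POmega F (Cfsg.quadFormOdd m F))) : Ind (Cfsg.quadFormOdd m F) α := by
  revert α
  rw [← coe_oddForm]
  exact ind_of_no_four (good_odd (by omega) h2) (by simp; omega) fun h => by
    simp at h; omega

/-- Every automorphism of `PΩ⁻_{2m}(q)` is induced by a semisimilarity. -/
theorem all_minus [Finite F] {m : ℕ} (hm : 3 ≤ m) {a b : F}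
    (hab : ∀ z₁ z₂ : F, z₁ ^ 2 + a * z₁ * z₂ + b * z₂ ^ 2 = 0 → z₁ = 0 ∧ z₂ = 0)
    (α : MulAut (Cfsg.POmega F (Cfsg.quadFormMinus m F a b))) :
    Ind (Cfsg.quadFormMinus m F a b) α := by
  revert α
  rw [← coe_minusForm]
  refine ind_of_no_four (good_minus (by omega) hab) (by simp; omega) fun h W hW => ?_
  have h1 := finrank_le_of_TS_minus m a b hab hW
  simp at h
  omega

/-- Every automorphism of `PΩ⁺_{2m}(q)`, `m ≥ 5`, is induced by a semisimilarity. -/
theorem all_plus [Finite F] {m : ℕ} (hm : 5 ≤ m)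
    (α : MulAut (Cfsg.POmega F (Cfsg.quadFormPlus m F))) : Ind (Cfsg.quadFormPlus m F) α := by
  revert α
  rw [← coe_plusForm]
  exact ind_of_no_four (good_plus (by omega)) (by simp; omega) fun h => by
    simp at h; omega

/-- The automorphisms of `PΩ⁺_8(q)` induced by semisimilarities have index three. -/
theorem card_mulAut_plus_four [Finite F] :
    Nat.card (MulAut (Cfsg.POmega F (Cfsg.quadFormPlus 4 F))) =
      3 * Nat.card {α : MulAut (Cfsg.POmega F (Cfsg.quadFormPlus 4 F)) //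
        Ind (Cfsg.quadFormPlus 4 F) α} := by
  rw [← coe_plusForm]
  have hG : Good (plusForm 4 F) := good_plus (by norm_num)
  obtain ⟨Γ, hΓ, hind⟩ := Cfsg.Agent.ClassicalGeometry.TrialityFinal.exists_index_three hG
    fun α x hx hx0 => by
      rcases Cfsg.Agent.ClassicalGeometry.OrthAut3.dichotomy hG (by simp) α hx hx0 with h | h
      · exact Or.inl h
      · exact Or.inr h.2
  have h1 : Nat.card (MulAut (Cfsg.POmega F ⇑(plusForm 4 F))) =
      Nat.card (MulAut (P (plusForm 4 F))) :=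
    Nat.card_congr (MulAut.congr (pe hG)).toEquiv
  have h2 : Nat.card {α : MulAut (Cfsg.POmega F ⇑(plusForm 4 F)) // Ind ⇑(plusForm 4 F) α} =
      Nat.card Γ :=
    Nat.card_congr ((MulAut.congr (pe hG)).toEquiv.subtypeEquiv fun α => by
      rw [ind_iff_pt hG (by simp)]
      exact (hΓ _).symm)
  rw [h1, h2, ← hind, Subgroup.index_mul_card]

theorem card_mulAut_of_all {ι : Type} [Fintype ι] [DecidableEq ι] {Q : (ι → F) → F}
    (h : ∀ α, Ind Q α) : Nat.card (MulAut (Cfsg.POmega F Q)) = Nat.card {α // Ind Q α} :=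
  Nat.card_congr (Equiv.subtypeUnivEquiv h).symm

end Families

end Cfsg.Agent.AutOrth.Main
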