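import Mathlib
import Cfsg.Agent.AutOrth.Main
import Cfsg.Agent.ClassicalGeometry.OrthSemiForms

/-!
The group of automorphisms induced by semisimilarities is everything (index three for the
eight-dimensional hyperbolic form).
-/

set_option autoImplicit false

namespace Cfsg.Agent.AutOrth.Final

open QuadraticMap Cfsg.Agent.LieClassical.OrthCore Cfsg.Agent.LieClassical.OrthTrans
  Cfsg.Agent.ClassicalGeometry.OrthAut1 Cfsg.Agent.ClassicalGeometry.OrthSemi
  Cfsg.Agent.ClassicalGeometry.OrthSemiForms Cfsg.Agent.AutOrth.Main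

section Abstract

variable {F V : Type*} [Field F] [AddCommGroup V] [Module F V] {Q : QuadraticForm F V}

theorem mem_range_of_pt [Finite F] [FiniteDimensional F V] (hG : Good Q)
    (h7 : 7 ≤ Module.finrank F V) {α : MulAut (P Q)} (h : Pt hG α) : α ∈ (Psi Q).range := by
  obtain ⟨M, σ, c, hM, hα⟩ := Cfsg.Agent.ClassicalGeometry.OrthAut4.exists_semi_P hG h7 α h
  refine mem_range_of_induces α hM.ne hM.smul hM.form fun g g' hgg => ?_
  have h1 := hα g
  refine h1.trans (congrArg _ ?_)
  apply SemiSim.ext_E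
  intro v
  obtain ⟨v, rfl⟩ := M.surjective v
  rw [SemiSim.conjE_apply, hgg]

theorem pt_of_mem_range (hG : Good Q) {α : MulAut (P Q)} (h : α ∈ (Psi Q).range) : Pt hG α := by
  obtain ⟨⟨M, σ, c, hM⟩, rfl⟩ := h
  let M' : V ≃+ V := { M with map_add' := hM.add }
  have hM' : SemiSim.IsSemi Q M' σ c := ⟨hM.ne, hM.smul, hM.form⟩
  refine pt_of_semi hG hM' fun g => ?_
  rw [Psi_mk]
  refine congrArg _ ?_
  apply SemiSim.ext_E
  intro v
  obtain ⟨v, rfl⟩ := M'.surjective v
  rw [SemiSim.conjE_apply, coe_conjE]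
  exact conjLin_apply' (Q := Q) ⟨M, σ, c, hM⟩ g.1 v

theorem surjective_of_no_four [Finite F] [FiniteDimensional F V] (hG : Good Q)
    (h7 : 7 ≤ Module.finrank F V)
    (h8 : Module.finrank F V = 8 → ∀ W : Submodule F V, TS Q W → Module.finrank F W ≠ 4) :
    Function.Surjective (Psi Q) := fun α =>
  mem_range_of_pt hG h7 (pt_of_no_four hG h7 h8 α)

end Abstract

variable {F : Type*} [Field F] [Finite F]

theorem surjective_odd {m : ℕ} (hm : 3 ≤ m) (h2 : (2 : F) ≠ 0) :
    Function.Surjective (Psi (LieClassical.OrthForms.oddForm m F)) := by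
  rw [oddForm_eq]
  exact surjective_of_no_four (Main.good_odd (by omega) h2) (by simp; omega) fun h => by
    simp at h; omega

theorem surjective_minus {m : ℕ} (hm : 3 ≤ m) {a b : F}
    (hab : ∀ z₁ z₂ : F, z₁ ^ 2 + a * z₁ * z₂ + b * z₂ ^ 2 = 0 → z₁ = 0 ∧ z₂ = 0) :
    Function.Surjective (Psi (LieClassical.OrthForms.minusForm m F a b)) := by
  rw [minusForm_eq]
  refine surjective_of_no_four (Main.good_minus (by omega) hab) (by simp; omega)
    fun h W hW => ?_
  have h1 := finrank_le_of_TS_minus m a b hab hW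
  simp at h
  omega

theorem surjective_plus {m : ℕ} (hm : 5 ≤ m) :
    Function.Surjective (Psi (LieClassical.OrthForms.plusForm m F)) := by
  rw [plusForm_eq]
  exact surjective_of_no_four (Main.good_plus (by omega)) (by simp; omega) fun h => by
    simp at h; omega

theorem index_plus_four : (Psi (LieClassical.OrthForms.plusForm 4 F)).range.index = 3 := by
  rw [plusForm_eq]
  have hG : Good (LieClassical.QuadForms.plusForm 4 F) := Main.good_plus (by norm_num)
  obtain ⟨Γ, hΓ, hind⟩ := Cfsg.Agent.ClassicalGeometry.TrialityFinal.exists_index_three hG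
    fun α x hx hx0 => by
      rcases Cfsg.Agent.ClassicalGeometry.OrthAut3.dichotomy hG (by simp) α hx hx0 with h | h
      · exact Or.inl h
      · exact Or.inr h.2
  rw [← hind]
  congr 1
  ext α
  rw [hΓ]
  exact ⟨fun h => pt_of_mem_range hG h, fun h => mem_range_of_pt hG (by simp) h⟩

end Cfsg.Agent.AutOrth.Final
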